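import Cfsg.Agent.Lib.EqualPOrder.Shape
import Cfsg.Agent.Lib.Isolated.HSubgroup
import Cfsg.Agent.Lib.Components.PComponent
import Cfsg.Agent.Lib.SEBrick.Basic
import Cfsg.Agent.S0201

/-!
When equal order `p`-subgroups are conjugate for all primes, a Sylow subgroup of exponent `p` is abelian:
otherwise it is extraspecial of order `p ^ 3` and a product of two transvections gives an element of even
order inverting a central element, against the shape of the Sylow 2-subgroups.
-/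

set_option autoImplicit false
set_option linter.style.haveILetI false
set_option linter.unusedSectionVars false

namespace Cfsg.Agent.EqualPOrder

open Subgroup

universe u

variable {G : Type u} [Group G] [Finite G] {p : ℕ} [hp : Fact p.Prime]

theorem orderOf_eq_p (hE : ExpP p G) (P : Sylow p G) {x : G} (hx : x ∈ (P : Subgroup G)) (h1 : x ≠ 1) :
    orderOf x = p := by
  obtain ⟨k, hk⟩ := IsPGroup.iff_orderOf.1 P.2 ⟨x, hx⟩
  rw [Subgroup.orderOf_mk] at hk
  exact orderOf_eq_prime (hE x ⟨k, hk⟩) h1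

theorem conj_pow_of_comm {x y c : G} (h : x * y * x⁻¹ = c * y) (hxc : x * c = c * x) (k : ℕ) :
    x ^ k * y * (x ^ k)⁻¹ = c ^ k * y := by
  induction k with
  | zero => simp
  | succ k ih =>
    calc x ^ (k + 1) * y * (x ^ (k + 1))⁻¹ = x * (x ^ k * y * (x ^ k)⁻¹) * x⁻¹ := by rw [pow_succ']; group
      _ = x * c ^ k * y * x⁻¹ := by rw [ih]; group
      _ = c ^ k * (x * y * x⁻¹) := by rw [(show Commute x c from hxc).pow_right k |>.eq]; group
      _ = c ^ (k + 1) * y := by rw [h, pow_succ]; group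

/-- A non-abelian Sylow subgroup of exponent `p`: its centre has order `p` and the commutators are central. -/
theorem extraspecial (hC : PConj p G) (hE : ExpP p G) (P : Sylow p G) {a₀ b₀ : G} (ha₀ : a₀ ∈ (P : Subgroup G))
    (hb₀ : b₀ ∈ (P : Subgroup G)) (hne : a₀ * b₀ ≠ b₀ * a₀) :
    ∃ z ∈ (P : Subgroup G), orderOf z = p ∧ (∀ w ∈ (P : Subgroup G), w * z = z * w) ∧
      (∀ w ∈ (P : Subgroup G), (∀ v ∈ (P : Subgroup G), v * w = w * v) → w ∈ zpowers z) ∧
      Nat.card (P : Subgroup G) = p ^ 3 ∧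
      ∀ v ∈ (P : Subgroup G), ∀ w ∈ (P : Subgroup G), v * w * v⁻¹ * w⁻¹ ∈ zpowers z := by
  classical
  set S : Subgroup G := (P : Subgroup G) with hS
  haveI : Nontrivial (S ⧸ center S) := by
    refine QuotientGroup.nontrivial_iff.2 fun h => hne ?_
    have := mem_center_iff.1 (h ▸ mem_top (⟨b₀, hb₀⟩ : S)) ⟨a₀, ha₀⟩
    exact congrArg Subtype.val this
  haveI := (P.2.to_quotient (center S)).center_nontrivial
  obtain ⟨⟨Y, hY⟩, hY1⟩ := exists_ne (1 : center (S ⧸ center S))
  obtain ⟨y₁, rfl⟩ := QuotientGroup.mk'_surjective (center S) Y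
  have hyc : y₁ ∉ center S := fun h => hY1 (Subtype.ext ((QuotientGroup.eq_one_iff y₁).2 h))
  obtain ⟨x₁, hx₁⟩ : ∃ x₁ : S, x₁ * y₁ ≠ y₁ * x₁ := by
    rw [mem_center_iff] at hyc; push Not at hyc; exact hyc
  set c₁ := x₁ * y₁ * x₁⁻¹ * y₁⁻¹ with hc₁
  have hcc : c₁ ∈ center S := by
    rw [← QuotientGroup.eq_one_iff]
    show QuotientGroup.mk' (center S) c₁ = 1
    rw [hc₁, map_mul, map_mul, map_mul, map_inv, map_inv, mem_center_iff.1 hY, mul_inv_cancel_right,
      mul_inv_cancel]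
  set x : G := (x₁ : G) with hxdef
  set y : G := (y₁ : G) with hydef
  set c : G := (c₁ : G) with hcdef
  have hcS : c ∈ S := c₁.2
  have hcC : ∀ w ∈ S, w * c = c * w := fun w hw => congrArg Subtype.val (mem_center_iff.1 hcc ⟨w, hw⟩)
  have hxy : x * y * x⁻¹ = c * y := by
    rw [hcdef, hc₁]; simp [hxdef, hydef, mul_assoc]
  have hnc : x * y ≠ y * x := fun e => hx₁ (Subtype.ext e)
  have hc1 : c ≠ 1 := fun e => hnc (by rw [← mul_inv_eq_iff_eq_mul, hxy, e, one_mul])
  have hco : orderOf c = p := orderOf_eq_p hE P hcS hc1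
  have hxo : orderOf x = p := orderOf_eq_p hE P x₁.2 fun e => hnc (by rw [e, one_mul, mul_one])
  have hyo : orderOf y = p := orderOf_eq_p hE P y₁.2 fun e => hnc (by rw [e, one_mul, mul_one])
  have hyc' : y ∉ zpowers c := by
    intro h
    obtain ⟨i, hi⟩ := mem_zpowers_iff.1 h
    exact hnc (by rw [← hi]; exact ((show Commute x c from hcC x x₁.2).zpow_right i).eq)
  set K := zpowers y ⊔ zpowers c with hK
  have hyN : y ∈ normalizer (zpowers c : Set G) := centralizer_le_normalizer _ (mem_centralizer_iff.2 fun u hu => by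
    obtain ⟨i, rfl⟩ := mem_zpowers_iff.1 hu
    exact ((show Commute y c from hcC y y₁.2).zpow_right i).eq.symm)
  have hK2 : Nat.card K = p ^ 2 := by
    rw [hK, card_sup_zpowers hyo hyN hyc', Nat.card_zpowers, hco, pow_two]
  have hKS : K ≤ S := sup_le (zpowers_le.2 y₁.2) (zpowers_le.2 hcS)
  have hKc : ∀ a ∈ K, ∀ b ∈ K, a * b = b * a := by
    have hle : K ≤ Subgroup.closure ({y, c} : Set G) :=
      sup_le (zpowers_le.2 (subset_closure (by simp))) (zpowers_le.2 (subset_closure (by simp)))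
    intro a ha b hb
    have hcm : IsMulCommutative (Subgroup.closure ({y, c} : Set G)) := Subgroup.isMulCommutative_closure (by
      intro u hu v hv
      simp only [Set.mem_insert_iff, Set.mem_singleton_iff] at hu hv
      rcases hu with rfl | rfl <;> rcases hv with rfl | rfl <;>
        first | rfl | exact hcC y y₁.2 | exact (hcC y y₁.2).symm)
    exact congrArg Subtype.val (hcm.is_comm.comm ⟨a, hle ha⟩ ⟨b, hle hb⟩)
  have hxK : x ∉ K := fun h => hnc (hKc x h y (le_sup_left (b := zpowers c) (mem_zpowers y)))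
  have hxN : x ∈ normalizer (K : Set G) := by
    have hle : K.map (MulAut.conj x).toMonoidHom ≤ K := by
      rw [hK, Subgroup.map_sup, MonoidHom.map_zpowers, MonoidHom.map_zpowers]
      refine sup_le (zpowers_le.2 ?_) (zpowers_le.2 ?_)
      · show x * y * x⁻¹ ∈ _
        rw [hxy]
        exact mul_mem (le_sup_right (a := zpowers y) (mem_zpowers c)) (le_sup_left (b := zpowers c) (mem_zpowers y))
      · show x * c * x⁻¹ ∈ _
        rw [hcC x x₁.2, mul_inv_cancel_right]
        exact le_sup_right (a := zpowers y) (mem_zpowers c)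
    have he : K.map (MulAut.conj x).toMonoidHom = K :=
      eq_of_le_of_card_ge hle (by rw [card_map_of_injective (MulAut.conj x).injective])
    refine mem_normalizer_iff.2 fun w => ⟨fun hw => hle (mem_map_of_mem _ hw), fun hw => ?_⟩
    rw [← he] at hw
    obtain ⟨w', hw', e⟩ := hw
    exact (MulAut.conj x).injective e ▸ hw'
  set N := zpowers x ⊔ K with hN
  have hN3 : Nat.card N = p ^ 3 := by rw [hN, card_sup_zpowers hxo hxN hxK, hK2]; ring
  have hNS : N ≤ S := sup_le (zpowers_le.2 x₁.2) hKS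
  -- the centraliser of `y`
  have hCy : ∀ w ∈ S, w * y = y * w → w ∈ K := by
    intro w hw hwy
    by_contra hwK
    have hwo : orderOf w = p := orderOf_eq_p hE P hw fun e => hwK (e ▸ one_mem K)
    have hwc : ∀ a ∈ K, w * a = a * w := by
      have hle : K ≤ centralizer ({w} : Set G) := sup_le
        (zpowers_le.2 (mem_centralizer_singleton_iff.2 hwy.symm))
        (zpowers_le.2 (mem_centralizer_singleton_iff.2 (hcC w hw).symm))
      exact fun a ha => (mem_centralizer_singleton_iff.1 (hle ha)).symm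
    have hwN : w ∈ normalizer (K : Set G) := centralizer_le_normalizer _ (mem_centralizer_iff.2 fun a ha =>
      (hwc a ha).symm)
    have hA : ∀ a ∈ zpowers w ⊔ K, ∀ b ∈ zpowers w ⊔ K, a * b = b * a := by
      intro a ha b hb
      rw [← SetLike.mem_coe, coe_mul_of_left_le_normalizer_right _ _ (zpowers_le.2 hwN)] at ha hb
      obtain ⟨u, hu, k, hk, rfl⟩ := Set.mem_mul.1 ha
      obtain ⟨u', hu', k', hk', rfl⟩ := Set.mem_mul.1 hb
      obtain ⟨i, rfl⟩ := mem_zpowers_iff.1 hu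
      obtain ⟨i', rfl⟩ := mem_zpowers_iff.1 hu'
      have c1 : Commute (w ^ i) (w ^ i' * k') := (Commute.zpow_zpow_self w i i').mul_right
        (Commute.zpow_left (hwc k' hk') i)
      have c2 : Commute k (w ^ i' * k') := (Commute.zpow_left (hwc k hk) i').symm.mul_right (hKc k hk k' hk')
      exact (c1.mul_left c2).eq
    have h3 : Nat.card ↥(zpowers w ⊔ K) = p ^ 3 := by
      rw [card_sup_zpowers hwo hwN hwK, hK2]; ring
    exact hnc (hC.mulComm h3 hN3 hA x (le_sup_left (b := K) (mem_zpowers x)) y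
      (le_sup_right (a := zpowers x) (le_sup_left (b := zpowers c) (mem_zpowers y))))
  have hcen : ∀ w ∈ S, (∀ v ∈ S, v * w = w * v) → w ∈ zpowers c := by
    intro w hw hwc
    have h := hCy w hw (hwc y y₁.2).symm
    rw [hK, ← SetLike.mem_coe, coe_mul_of_left_le_normalizer_right _ _ (zpowers_le.2 hyN)] at h
    obtain ⟨u, hu, v, hv, rfl⟩ := Set.mem_mul.1 h
    obtain ⟨i, rfl⟩ := mem_zpowers_iff.1 hu
    have hxv : x * v = v * x := by
      obtain ⟨j, rfl⟩ := mem_zpowers_iff.1 hv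
      exact ((show Commute x c from hcC x x₁.2).zpow_right j).eq
    have hxu : x * y ^ i = y ^ i * x := by
      refine mul_right_cancel (b := v) ?_
      rw [mul_assoc, hwc x x₁.2, mul_assoc, ← hxv, ← mul_assoc]
    refine mul_mem ?_ hv
    by_contra hu'
    have hyi : y ^ i ≠ 1 := fun e => hu' (e ▸ one_mem _)
    haveI : Fact (Nat.card (zpowers y)).Prime := ⟨by rw [Nat.card_zpowers, hyo]; exact hp.out⟩
    obtain ⟨j, hj⟩ := mem_zpowers_iff.1 (mem_zpowers_of_prime_card (G := zpowers y) (g := ⟨y ^ i, hu⟩)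
      (g' := ⟨y, mem_zpowers y⟩) rfl (fun e => hyi (congrArg Subtype.val e)))
    refine hnc ?_
    rw [← show (y ^ i) ^ j = y from congrArg Subtype.val hj]
    exact ((show Commute x (y ^ i) from hxu).zpow_right j).eq
  have hall : S ≤ N := by
    intro w hw
    have hu : w * y * w⁻¹ * y⁻¹ ∈ zpowers c := by
      refine hcen _ (mul_mem (mul_mem (mul_mem hw y₁.2) (inv_mem hw)) (inv_mem y₁.2)) fun v hv => ?_
      have hm : (⟨w, hw⟩ : S) * y₁ * (⟨w, hw⟩ : S)⁻¹ * y₁⁻¹ ∈ center S := by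
        rw [← QuotientGroup.eq_one_iff]
        show QuotientGroup.mk' (center S) _ = 1
        rw [map_mul, map_mul, map_mul, map_inv, map_inv, mem_center_iff.1 hY, mul_inv_cancel_right,
          mul_inv_cancel]
      exact congrArg Subtype.val (mem_center_iff.1 hm ⟨v, hv⟩)
    obtain ⟨k, hk⟩ : ∃ k : ℕ, c ^ k = w * y * w⁻¹ * y⁻¹ :=
      (isOfFinOrder_of_finite c).mem_powers_iff_mem_zpowers.2 hu
    have h1 : (x ^ k)⁻¹ * w * y = y * ((x ^ k)⁻¹ * w) := by
      have e1 := conj_pow_of_comm hxy (hcC x x₁.2) k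
      rw [hk, inv_mul_cancel_right] at e1
      calc (x ^ k)⁻¹ * w * y = (x ^ k)⁻¹ * (w * y * w⁻¹) * w := by group
        _ = (x ^ k)⁻¹ * (x ^ k * y * (x ^ k)⁻¹) * w := by rw [e1]
        _ = y * ((x ^ k)⁻¹ * w) := by group
    have h2 := hCy _ (mul_mem (inv_mem (pow_mem x₁.2 k)) hw) h1
    have h3 := mul_mem (le_sup_left (b := K) (pow_mem (mem_zpowers x) k)) (le_sup_right (a := zpowers x) h2)
    rwa [mul_inv_cancel_left] at h3
  have hS3 : Nat.card S = p ^ 3 := by rw [le_antisymm hall hNS, hN3]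
  refine ⟨c, hcS, hco, hcC, hcen, hS3, fun v hv w hw => ?_⟩
  -- the quotient by the centre has order `p ^ 2`
  have hcard : Nat.card (center S) = p := by
    rw [← hco, ← Nat.card_zpowers]
    refine Nat.card_congr (Equiv.ofBijective (fun u => (⟨((u : S) : G), hcen _ (u : S).2 fun a ha =>
      congrArg Subtype.val (mem_center_iff.1 u.2 ⟨a, ha⟩)⟩ : zpowers c))
      ⟨fun a b h => Subtype.ext (Subtype.ext (congrArg (fun t : zpowers c => (t : G)) h :)), fun u =>
        ⟨⟨⟨u, zpowers_le.2 hcS u.2⟩, zpowers_le.2 hcc ?_⟩, rfl⟩⟩)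
    obtain ⟨i, hi⟩ := mem_zpowers_iff.1 u.2
    exact ⟨i, Subtype.ext (by simpa using hi)⟩
  have hq : Nat.card (S ⧸ center S) = p ^ 2 := by
    have h := Subgroup.card_eq_card_quotient_mul_card_subgroup (center S)
    rw [hS3, hcard, pow_succ] at h
    exact Nat.eq_of_mul_eq_mul_right hp.out.pos h.symm
  have hm : (⟨v, hv⟩ : S) * ⟨w, hw⟩ * (⟨v, hv⟩ : S)⁻¹ * (⟨w, hw⟩ : S)⁻¹ ∈ center S := by
    rw [← QuotientGroup.eq_one_iff]
    show QuotientGroup.mk' (center S) _ = 1
    haveI := IsPGroup.isMulCommutative_of_card_eq_prime_sq hq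
    rw [map_mul, map_mul, map_mul, map_inv, map_inv,
      mul_comm' (QuotientGroup.mk' (center S) ⟨v, hv⟩), mul_inv_cancel_right, mul_inv_cancel]
  exact hcen _ (mul_mem (mul_mem (mul_mem hv hw) (inv_mem hv)) (inv_mem hw)) fun a ha =>
    congrArg Subtype.val (mem_center_iff.1 hm ⟨a, ha⟩)

/-- Two transvections: an element inverting one of a generating pair of a four-group analogue of order `p ^ 2`. -/
theorem exists_inverting (hC : PConj p G) (hE : ExpP p G) (P : Sylow p G) {a₀ b₀ : G}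
    (ha₀ : a₀ ∈ (P : Subgroup G)) (hb₀ : b₀ ∈ (P : Subgroup G)) (hne : a₀ * b₀ ≠ b₀ * a₀) :
    ∃ g y : G, orderOf y = p ∧ g * g * y * (g * g)⁻¹ = y⁻¹ ∧
      ∀ K : Subgroup G, (∀ u : G, orderOf u = p → u ∈ K) → g ∈ K := by
  classical
  obtain ⟨z, hzP, hzo, hzC, hzcen, hP3, hzcomm⟩ := extraspecial hC hE P ha₀ hb₀ hne
  obtain ⟨y, hyP, hyz⟩ : ∃ y ∈ (P : Subgroup G), y ∉ zpowers z := by
    by_contra h
    push Not at h
    obtain ⟨i, rfl⟩ := mem_zpowers_iff.1 (h a₀ ha₀)
    obtain ⟨j, rfl⟩ := mem_zpowers_iff.1 (h b₀ hb₀)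
    exact hne (Commute.zpow_zpow_self z i j).eq
  have hyo : orderOf y = p := orderOf_eq_p hE P hyP fun e => hyz (e ▸ one_mem _)
  obtain ⟨a, haP, hay⟩ : ∃ a ∈ (P : Subgroup G), a * y ≠ y * a := by
    by_contra h
    push Not at h
    exact hyz (hzcen y hyP h)
  -- a Sylow subgroup with `y` central through `z`
  obtain ⟨h, hh⟩ := hC (zpowers z) (zpowers y) (IsPGroup.of_card (n := 1) (by rw [Nat.card_zpowers, hzo, pow_one]))
    (IsPGroup.of_card (n := 1) (by rw [Nat.card_zpowers, hyo, pow_one]))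
    (by rw [Nat.card_zpowers, Nat.card_zpowers, hzo, hyo])
  have hQle : ((P : Subgroup G).map (MulAut.conj h).toMonoidHom) ≤ centralizer ({y} : Set G) := by
    rintro _ ⟨w, hw, rfl⟩
    have hy' : y ∈ (zpowers z).map (MulAut.conj h).toMonoidHom := hh ▸ mem_zpowers y
    obtain ⟨u, hu, rfl⟩ := hy'
    obtain ⟨i, rfl⟩ := mem_zpowers_iff.1 hu
    refine mem_centralizer_singleton_iff.2 ?_
    rw [← map_mul, ← map_mul, ((show Commute w z from hzC w hw).zpow_right i).eq]
  have hzy : z * y = y * z := (hzC y hyP).symm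
  have hE2 : IsPGroup p ↥(zpowers z ⊔ zpowers y) := P.2.to_le (sup_le (zpowers_le.2 hzP) (zpowers_le.2 hyP))
  have hEC : zpowers z ⊔ zpowers y ≤ centralizer ({y} : Set G) :=
    sup_le (zpowers_le.2 (mem_centralizer_singleton_iff.2 hzy)) (zpowers_le.2 (mem_centralizer_singleton_iff.2 rfl))
  obtain ⟨R, hR⟩ := (hE2.comap_of_injective (centralizer ({y} : Set G)).subtype
    (centralizer ({y} : Set G)).subtype_injective).exists_le_sylow
  obtain ⟨T, hT⟩ := (R.2.map (centralizer ({y} : Set G)).subtype).exists_le_sylow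
  have hRT : (R : Subgroup _).map (centralizer ({y} : Set G)).subtype = (T : Subgroup G) := by
    refine eq_of_le_of_card_ge hT ?_
    rw [card_map_of_injective (Subtype.val_injective), Nat.card_congr (T.equiv P).toEquiv]
    obtain ⟨R', hR'⟩ := (((P.2.map (MulAut.conj h).toMonoidHom).comap_of_injective
      (centralizer ({y} : Set G)).subtype (centralizer ({y} : Set G)).subtype_injective)).exists_le_sylow
    rw [Nat.card_congr (R.equiv R').toEquiv]
    refine le_of_eq_of_le ?_ (card_le_of_le hR')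
    rw [← card_map_of_injective (K := _) (centralizer ({y} : Set G)).subtype_injective,
      map_comap_eq_self (by rw [range_subtype]; exact hQle),
      card_map_of_injective (MulAut.conj h).injective]
  have hTC : (T : Subgroup G) ≤ centralizer ({y} : Set G) := hRT ▸ map_subtype_le _
  have hzT : z ∈ (T : Subgroup G) := hRT ▸ mem_map.2 ⟨⟨z, hEC (le_sup_left (b := zpowers y) (mem_zpowers z))⟩,
    hR (le_sup_left (b := zpowers y) (mem_zpowers z)), rfl⟩
  have hyT : y ∈ (T : Subgroup G) := hRT ▸ mem_map.2 ⟨⟨y, hEC (le_sup_right (a := zpowers z) (mem_zpowers y))⟩,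
    hR (le_sup_right (a := zpowers z) (mem_zpowers y)), rfl⟩
  have hyTc : ∀ w ∈ (T : Subgroup G), w * y = y * w := fun w hw => mem_centralizer_singleton_iff.1 (hTC hw)
  -- `T` is non-abelian
  obtain ⟨a₁, ha₁, b₁, hb₁, hne₁⟩ : ∃ a₁ ∈ (T : Subgroup G), ∃ b₁ ∈ (T : Subgroup G), a₁ * b₁ ≠ b₁ * a₁ := by
    by_contra hcon
    push Not at hcon
    exact hne (hC.mulComm ((Nat.card_congr (T.equiv P).toEquiv).trans hP3) hP3 hcon a₀ ha₀ b₀ hb₀)
  obtain ⟨z', -, hz'o, -, hz'cen, -, hz'comm⟩ := extraspecial hC hE T ha₁ hb₁ hne₁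
  have hyz' : zpowers z' = zpowers y := (eq_of_le_of_card_ge (zpowers_le.2 (hz'cen y hyT hyTc))
    (by rw [Nat.card_zpowers, Nat.card_zpowers, hz'o, hyo])).symm
  obtain ⟨b, hbT, hbz⟩ : ∃ b ∈ (T : Subgroup G), b * z ≠ z * b := by
    by_contra hcon
    push Not at hcon
    have h1 := hz'cen z hzT hcon
    rw [hyz'] at h1
    refine hyz (?_ : y ∈ zpowers z)
    rw [eq_of_le_of_card_ge (zpowers_le.2 h1) (by rw [Nat.card_zpowers, Nat.card_zpowers, hzo, hyo])]
    exact mem_zpowers y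
  -- the transvections
  have key : ∀ (u v w : G) (Q : Sylow p G), w ∈ (Q : Subgroup G) → u ∈ (Q : Subgroup G) →
      (∀ r ∈ (Q : Subgroup G), r * v = v * r) → w * u * w⁻¹ * u⁻¹ ∈ zpowers v → w * u ≠ u * w →
      orderOf v = p → ∀ t ∈ zpowers v, ∃ k : ℕ, w ^ k * u * (w ^ k)⁻¹ = t * u ∧ w ^ k * v * (w ^ k)⁻¹ = v ∧
        (k ≠ 0 → orderOf w = p) := by
    intro u v w Q hw hu hQv hd hne' hvo t ht
    set d := w * u * w⁻¹ * u⁻¹ with hddef
    have hd1 : d ≠ 1 := fun e => hne' (by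
      rw [← mul_inv_eq_iff_eq_mul, ← mul_inv_eq_one, ← hddef, e])
    have hdv : zpowers d = zpowers v := eq_of_le_of_card_ge (zpowers_le.2 hd) (by
      rw [Nat.card_zpowers, Nat.card_zpowers, hvo]
      exact le_of_eq (orderOf_eq_p hE Q (mul_mem (mul_mem (mul_mem hw hu) (inv_mem hw)) (inv_mem hu)) hd1).symm)
    obtain ⟨k, hk⟩ : ∃ k : ℕ, d ^ k = t :=
      (isOfFinOrder_of_finite d).mem_powers_iff_mem_zpowers.2 (hdv ▸ ht)
    obtain ⟨i, hi⟩ := mem_zpowers_iff.1 hd
    have hwd : w * d = d * w := by rw [← hi]; exact ((show Commute w v from hQv w hw).zpow_right i).eq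
    refine ⟨k, by rw [conj_pow_of_comm (c := d) (by rw [hddef]; group) hwd k, hk], ?_, fun _ => ?_⟩
    · rw [((show Commute w v from hQv w hw).pow_left k).eq, mul_inv_cancel_right]
    · exact orderOf_eq_p hE Q hw fun e => hne' (by rw [e, one_mul, mul_one])
  obtain ⟨k, hk1, hk2, hkp⟩ := key y z a P haP hyP hzC (hzcomm a haP y hyP) hay hzo z⁻¹ (inv_mem (mem_zpowers z))
  obtain ⟨l, hl1, hl2, hlp⟩ := key z y b T hbT hzT hyTc (hyz' ▸ hz'comm b hbT z hzT) hbz hyo y (mem_zpowers y)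
  set A := a ^ k with hA
  set B := b ^ l with hB
  have eA : ∀ u, A * u * A⁻¹ = MulAut.conj A u := fun _ => rfl
  have eB : ∀ u, B * u * B⁻¹ = MulAut.conj B u := fun _ => rfl
  rw [eA] at hk1 hk2
  rw [eB] at hl1 hl2
  set φ := MulAut.conj (A * B * A) with hφ
  have hφe : ∀ u, φ u = MulAut.conj A (MulAut.conj B (MulAut.conj A u)) := fun u => by
    rw [hφ, map_mul, map_mul]; rfl
  have hφy : φ y = z⁻¹ := by
    rw [hφe, hk1, map_mul, map_inv, hl1, hl2, mul_inv_rev, inv_mul_cancel_right, map_inv, hk2]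
  have hφz : φ z = y := by
    rw [hφe, hk2, hl1, map_mul, hk1, hk2, ← show y * z⁻¹ = z⁻¹ * y from
      ((show Commute y z from hzy.symm).inv_right).eq, inv_mul_cancel_right]
  refine ⟨A * B * A, y, hyo, ?_, fun K hK => ?_⟩
  · show MulAut.conj (A * B * A * (A * B * A)) y = y⁻¹
    rw [map_mul]
    show φ (φ y) = y⁻¹
    rw [hφy, map_inv, hφz]
  · have hAK : A ∈ K := by
      rcases Nat.eq_zero_or_pos k with hk0 | hk0
      · rw [hA, hk0, pow_zero]; exact one_mem K
      · exact pow_mem (hK a (hkp hk0.ne')) k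
    have hBK : B ∈ K := by
      rcases Nat.eq_zero_or_pos l with hl0 | hl0
      · rw [hB, hl0, pow_zero]; exact one_mem K
      · exact pow_mem (hK b (hlp hl0.ne')) l
    exact mul_mem (mul_mem hAK hBK) hAK

theorem conj_pow_inverts {g y : G} (h : g * y * g⁻¹ = y⁻¹) {n : ℕ} (hn : Odd n) :
    g ^ n * y * (g ^ n)⁻¹ = y⁻¹ := by
  have h2 : g * g * y * (g * g)⁻¹ = y := by
    calc g * g * y * (g * g)⁻¹ = g * (g * y * g⁻¹) * g⁻¹ := by group
      _ = g * y⁻¹ * g⁻¹ := by rw [h]
      _ = (g * y * g⁻¹)⁻¹ := by group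
      _ = y := by rw [h, inv_inv]
  obtain ⟨m, rfl⟩ := hn
  have hm : Commute ((g * g) ^ m) y := (show Commute (g * g) y from mul_inv_eq_iff_eq_mul.1 h2).pow_left m
  rw [pow_succ, pow_mul, pow_two,
    show (g * g) ^ m * g * y * ((g * g) ^ m * g)⁻¹ = (g * g) ^ m * (g * y * g⁻¹) * ((g * g) ^ m)⁻¹ by group, h,
    hm.inv_right.eq, mul_inv_cancel_right]

/-- A Sylow subgroup of exponent an odd prime `p` is abelian. -/
theorem comm_of_exp (hC : PConj p G) (hC2 : PConj 2 G) (hp2 : p ≠ 2) (hE : ExpP p G) (P : Sylow p G) :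
    ∀ a ∈ (P : Subgroup G), ∀ b ∈ (P : Subgroup G), a * b = b * a := by
  classical
  haveI : Fact (Nat.Prime 2) := ⟨Nat.prime_two⟩
  by_contra hcon
  push Not at hcon
  obtain ⟨a₀, ha₀, b₀, hb₀, hne⟩ := hcon
  obtain ⟨g, y, hyo, hgy, hgK⟩ := exists_inverting hC hE P ha₀ hb₀ hne
  have hy1 : y⁻¹ ≠ y := fun e => by
    have : orderOf y ∣ 2 := orderOf_dvd_of_pow_eq_one (by rw [pow_two]; nth_rw 1 [← e]; exact inv_mul_cancel y)
    rw [hyo] at this
    exact hp2 ((Nat.prime_dvd_prime_iff_eq hp.out Nat.prime_two).1 this)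
  -- the order of `g ^ 2` is even
  have hev : 2 ∣ orderOf (g * g) := by
    by_contra hodd
    have h := conj_pow_inverts hgy (Nat.odd_iff.2 (by omega) : Odd (orderOf (g * g)))
    rw [pow_orderOf_eq_one, one_mul, inv_one, mul_one] at h
    exact hy1 h.symm
  obtain ⟨e, m, hm, hem⟩ := Nat.exists_eq_two_pow_mul_odd (orderOf_pos g).ne'
  have hgm : orderOf (g ^ m) = 2 ^ e := by
    rw [orderOf_pow_of_dvd hm.pos.ne' (hem ▸ dvd_mul_left _ _), hem, Nat.mul_div_cancel _ hm.pos]
  have hmK : ∀ K : Subgroup G, (∀ u : G, orderOf u = p → u ∈ K) → ¬ Odd (Nat.card K) := fun K hK ho => by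
    have h1 : orderOf (g * g) ∣ Nat.card K := Subgroup.orderOf_dvd_natCard _ (mul_mem (hgK K hK) (hgK K hK))
    exact Nat.not_even_iff_odd.2 ho (even_iff_two_dvd.2 (hev.trans h1))
  have hdvdK : ∀ (N : Subgroup G) [N.Normal] (u : G), orderOf u = p →
      ¬ p ∣ N.index → u ∈ N := by
    intro N _ u hu hN
    rw [← QuotientGroup.eq_one_iff, ← orderOf_eq_one_iff]
    have h1 : orderOf (u : G ⧸ N) ∣ p := hu ▸ orderOf_map_dvd (QuotientGroup.mk' N) u
    have h2 : orderOf (u : G ⧸ N) ∣ N.index := by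
      rw [Subgroup.index_eq_card]; exact orderOf_dvd_natCard _
    exact Nat.eq_one_of_dvd_coprimes (hp.out.coprime_iff_not_dvd.2 hN) h1 h2
  obtain ⟨S⟩ : Nonempty (Sylow 2 G) := inferInstance
  rcases shape hC2 S with hsq | hcyc | ⟨-, ⟨f⟩⟩
  · have h := hsq (g ^ m) ⟨e, hgm⟩
    refine Nat.not_even_iff_odd.2 hm (even_iff_two_dvd.2 ?_)
    have h' : (g * g) ^ m = 1 := by
      rw [← pow_two, ← pow_mul, mul_comm 2 m, pow_mul]
      exact h
    exact hev.trans (orderOf_dvd_of_pow_eq_one h')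
  · obtain ⟨a, ha⟩ := PBasic.exists_index_pow_of_isPGroup_quotient
      (PBasic.quotient_pPrimeCore_isPGroup (HSub.hasNormalPComplement_of_cyclic S (fun q hq _ => hq.two_le)))
    haveI : (Cfsg.pPrimeCore 2 G).Normal := Cfsg.pPrimeCore_normal 2 G
    refine hmK (Cfsg.pPrimeCore 2 G) (fun u hu => hdvdK _ u hu fun hd => ?_)
      (Nat.coprime_two_right.1 (PBasic.pPrimeCore_coprime 2 G))
    rw [ha] at hd
    exact hp2 ((Nat.prime_dvd_prime_iff_eq hp.out Nat.prime_two).1 (hp.out.dvd_of_dvd_pow hd))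
  · set O := Cfsg.oddCore G with hOdef
    haveI hOn : O.Normal := Cfsg.pPrimeCore_normal 2 G
    have hOodd : Odd (Nat.card O) := Nat.coprime_two_right.1 (PBasic.pPrimeCore_coprime 2 G)
    set π := QuotientGroup.mk' O with hπ
    have hπs : Function.Surjective π := QuotientGroup.mk'_surjective O
    let S' : Sylow 2 (G ⧸ O) := S.mapSurjective hπs
    have hinjS : Function.Injective (π.comp (S : Subgroup G).subtype) := by
      rw [injective_iff_map_eq_one]
      intro s hs
      have h1 : (s : G) ∈ O := (QuotientGroup.eq_one_iff _).1 hs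
      obtain ⟨k, hk⟩ := IsPGroup.iff_orderOf.1 S.2 s
      refine orderOf_eq_one_iff.1 (Nat.eq_one_of_dvd_coprimes ((Nat.coprime_two_left.2 hOodd).pow_left k)
        (hk ▸ dvd_rfl) ?_)
      rw [← Subgroup.orderOf_coe]
      exact Subgroup.orderOf_dvd_natCard _ h1
    let f' : (S' : Subgroup (G ⧸ O)) ≃* QuaternionGroup 2 :=
      ((MulEquiv.subgroupCongr (show (S' : Subgroup (G ⧸ O)) = (π.comp (S : Subgroup G).subtype).range by
        rw [MonoidHom.range_comp, range_subtype]; rfl)).trans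
        (MonoidHom.ofInjective hinjS).symm).trans f
    have hO' : ∀ N : Subgroup (G ⧸ O), N.Normal → Odd (Nat.card N) → N = ⊥ := fun N hN ho =>
      le_bot_iff.1 (Components.pPrimeCore_quotient (p := 2) G ▸ SEBrick.le_oddCore hN ho)
    have hZ2 : Nat.card (center (G ⧸ O)) = 2 := S0201.result S' 0 f' hO'
    have hZS : center (G ⧸ O) ≤ (S' : Subgroup (G ⧸ O)) := fun z hz => by
      have h2 : IsPGroup 2 ↥((S' : Subgroup (G ⧸ O)) ⊔ center (G ⧸ O)) :=
        S'.2.to_sup_of_normal_right (IsPGroup.of_card (n := 1) (by rw [hZ2, pow_one]))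
      exact (S'.3 h2 le_sup_left).le (le_sup_right (a := (S' : Subgroup (G ⧸ O))) hz)
    have hq : ∀ q : QuaternionGroup 2, q * q = 1 ∨ q * q = QuaternionGroup.a 2 := by decide
    have hu : ∀ q : QuaternionGroup 2, q * q = 1 → q = 1 ∨ q = QuaternionGroup.a 2 := by decide
    obtain ⟨⟨z, hz⟩, hz1⟩ : ∃ z : center (G ⧸ O), z ≠ 1 := by
      haveI : Nontrivial (center (G ⧸ O)) := by rw [← Finite.one_lt_card_iff_nontrivial, hZ2]; norm_num
      exact exists_ne 1
    have hfz : f' ⟨z, hZS hz⟩ = QuaternionGroup.a 2 := by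
      refine (hu _ ?_).resolve_left fun h => hz1 (Subtype.ext (congrArg Subtype.val (f'.map_eq_one_iff.1 h) :))
      have hz2 : z * z = 1 := by
        have := congrArg Subtype.val (pow_card_eq_one' (x := (⟨z, hz⟩ : center (G ⧸ O))))
        rw [hZ2] at this
        simpa [pow_two] using this
      rw [← map_mul, show (⟨z, hZS hz⟩ : (S' : Subgroup (G ⧸ O))) * ⟨z, hZS hz⟩ = 1 from Subtype.ext hz2, map_one]
    have hsq : ∀ s : G ⧸ O, (∃ k, orderOf s = 2 ^ k) → s * s ∈ center (G ⧸ O) := by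
      intro s hs
      obtain ⟨k, hk⟩ := hs
      obtain ⟨R, hR⟩ := (IsPGroup.of_card (n := k) (by rw [Nat.card_zpowers, hk]) :
        IsPGroup 2 (zpowers s)).exists_le_sylow
      obtain ⟨c, hc⟩ := MulAction.exists_smul_eq (G ⧸ O) S' R
      have hsR : c⁻¹ * s * c ∈ (S' : Subgroup (G ⧸ O)) := by
        have h1 : s ∈ (R : Subgroup (G ⧸ O)) := hR (mem_zpowers s)
        rw [← hc, Sylow.coe_subgroup_smul, Subgroup.mem_pointwise_smul_iff_inv_smul_mem] at h1
        simpa [MulAut.smul_def] using h1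
      have key : (c⁻¹ * s * c) * (c⁻¹ * s * c) ∈ center (G ⧸ O) := by
        rcases hq (f' ⟨_, hsR⟩) with h | h
        · have := congrArg Subtype.val (f'.injective ((map_mul f' _ _).trans (h.trans (map_one f').symm)))
          exact (show (c⁻¹ * s * c) * (c⁻¹ * s * c) = 1 from this) ▸ one_mem _
        · have := congrArg Subtype.val (f'.injective ((map_mul f' _ _).trans (h.trans hfz.symm)))
          exact (show (c⁻¹ * s * c) * (c⁻¹ * s * c) = z from this) ▸ hz
      have h2 := (inferInstance : (center (G ⧸ O)).Normal).conj_mem _ key c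
      rwa [show c * (c⁻¹ * s * c * (c⁻¹ * s * c)) * c⁻¹ = s * s by group] at h2
    have hcen : π (g ^ m) * π (g ^ m) ∈ center (G ⧸ O) := by
      refine hsq _ ?_
      obtain ⟨j, -, hj⟩ := (Nat.dvd_prime_pow Nat.prime_two).1 (hgm ▸ orderOf_map_dvd π (g ^ m))
      exact ⟨j, hj⟩
    have hinv := congrArg π (conj_pow_inverts hgy hm)
    have e1 : π ((g * g) ^ m) = π (g ^ m) * π (g ^ m) := by
      rw [(Commute.refl g).mul_pow, map_mul]
    rw [map_mul, map_mul, map_inv, map_inv, e1, ← mem_center_iff.1 hcen (π y), mul_inv_cancel_right] at hinv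
    have hyO : y ∈ O := by
      have h2 : π y ^ 2 = 1 := by
        rw [pow_two]; nth_rw 1 [hinv]; exact inv_mul_cancel _
      rw [← QuotientGroup.eq_one_iff, ← orderOf_eq_one_iff]
      refine Nat.eq_one_of_dvd_coprimes ((Nat.coprime_primes hp.out Nat.prime_two).2 hp2)
        (hyo ▸ orderOf_map_dvd π y) (orderOf_dvd_of_pow_eq_one h2)
    refine hmK O (fun u hu' => ?_) hOodd
    obtain ⟨c, hc⟩ := hC (zpowers y) (zpowers u) (IsPGroup.of_card (n := 1) (by rw [Nat.card_zpowers, hyo, pow_one]))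
      (IsPGroup.of_card (n := 1) (by rw [Nat.card_zpowers, hu', pow_one]))
      (by rw [Nat.card_zpowers, Nat.card_zpowers, hyo, hu'])
    obtain ⟨v, hv, hvu⟩ : u ∈ (zpowers y).map (MulAut.conj c).toMonoidHom := hc ▸ mem_zpowers u
    exact hvu ▸ hOn.conj_mem v (zpowers_le.2 hyO hv) c

end Cfsg.Agent.EqualPOrder
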