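import Cfsg.Agent.Lib.EqualPOrder.Psl
import Cfsg.Agent.Lib.EqualPOrder.Exponent
import Cfsg.Agent.Lib.EqualOrder.Main
import Cfsg.Agent.Lib.LocalEven.Wielandt
import Cfsg.Agent.Lib.RankOneP.Quaternion
import Cfsg.Agent.Lib.J1.Simple
import Cfsg.Agent.Lib.SLPres.Central
import Cfsg.Agent.Lib.Transfer.Basic
import Cfsg.Agent.S2554
import Cfsg.Agent.S2065
import Cfsg.Prelude.Def_Sporadic

/-!
Groups with trivial odd core in which, for every prime `p`, `p`-subgroups of equal order are conjugate.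
-/

set_option autoImplicit false
set_option linter.style.haveILetI false

namespace Cfsg.Agent.EqualPOrder

open Subgroup

universe u

/-- The list. -/
def ListP (G : Type*) [Group G] : Prop :=
    (IsCyclic G ∧ IsPGroup 2 G) ∨
    Nonempty (G ≃* Cfsg.affineGroup (GaloisField 2 3)) ∨
    Nonempty (G ≃* Cfsg.semiaffineGroup (GaloisField 2 3)) ∨
    Nonempty (G ≃* Cfsg.semiaffineGroup (GaloisField 2 5)) ∨
    Cfsg.IsJ1 G ∨
    Nonempty (G ≃* Matrix.ProjectiveSpecialLinearGroup (Fin 2) (GaloisField 2 3)) ∨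
    Nonempty (G ≃* MulAut (Matrix.ProjectiveSpecialLinearGroup (Fin 2) (GaloisField 2 5))) ∨
    (∃ (p : ℕ) (_ : Fact p.Prime), (p % 8 = 3 ∨ p % 8 = 5) ∧
      (Nonempty (G ≃* Matrix.ProjectiveSpecialLinearGroup (Fin 2) (ZMod p)) ∨
       Nonempty (G ≃* Matrix.ProjectiveSpecialLinearGroup (Fin 2) (GaloisField p 3)) ∨
       Nonempty (G ≃* Matrix.SpecialLinearGroup (Fin 2) (ZMod p)) ∨
       Nonempty (G ≃* Matrix.SpecialLinearGroup (Fin 2) (GaloisField p 3))))

variable {G : Type u} [Group G] [Finite G]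

theorem PConj.quot {p : ℕ} [Fact p.Prime] (hC : PConj p G) (N : Subgroup G) [N.Normal] : PConj p (G ⧸ N) := by
  classical
  intro H K hH hK h
  have key : ∀ L : Subgroup (G ⧸ N), IsPGroup p L → ∃ Q : Subgroup G, IsPGroup p Q ∧
      Q.map (QuotientGroup.mk' N) = L ∧ Nat.card Q = p ^ (Nat.card N * Nat.card L).factorization p := by
    intro L hL
    let π := QuotientGroup.mk' N
    let r : L.comap π →* L := (π.comp (L.comap π).subtype).codRestrict L fun x => x.2
    have hr : Function.Surjective r := fun y => by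
      obtain ⟨x, hx⟩ := QuotientGroup.mk'_surjective N (y : G ⧸ N)
      exact ⟨⟨x, show π x ∈ L by rw [show π x = y from hx]; exact y.2⟩, Subtype.ext hx⟩
    obtain ⟨Q⟩ : Nonempty (Sylow p (L.comap π)) := inferInstance
    refine ⟨(Q : Subgroup (L.comap π)).map (L.comap π).subtype, Q.2.map _, ?_, ?_⟩
    · have htop : (Q : Subgroup (L.comap π)).map r = ⊤ :=
        ((Q.mapSurjective hr).3 (hL.of_equiv Subgroup.topEquiv.symm) le_top).symm
      rw [Subgroup.map_map, show π.comp (L.comap π).subtype = L.subtype.comp r from MonoidHom.ext fun _ => rfl,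
        ← Subgroup.map_map, htop, ← MonoidHom.range_eq_map, range_subtype]
    · rw [card_map_of_injective (L.comap π).subtype_injective, Q.card_eq_multiplicity,
        show Nat.card (L.comap π) = Nat.card N * Nat.card L from
          QuotientGroup.card_preimage_mk N (L : Set (G ⧸ N))]
  obtain ⟨A, hA, hAH, hAc⟩ := key H hH
  obtain ⟨B, hB, hBK, hBc⟩ := key K hK
  obtain ⟨g, hg⟩ := hC A B hA hB (by rw [hAc, hBc, h])
  refine ⟨QuotientGroup.mk' N g, ?_⟩
  rw [← hBK, hg, ← hAH, Subgroup.map_map, Subgroup.map_map]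
  congr 1

theorem PConj.one_class (hC : PConj 2 G) {t u : G} (ht : orderOf t = 2) (hu : orderOf u = 2) :
    ∃ g : G, g * t * g⁻¹ = u := by
  haveI : Fact (Nat.Prime 2) := ⟨Nat.prime_two⟩
  have hp : ∀ x : G, orderOf x = 2 → IsPGroup 2 (zpowers x) := fun x hx =>
    IsPGroup.of_card (n := 1) (by rw [Nat.card_zpowers, hx, pow_one])
  obtain ⟨g, hg⟩ := hC (zpowers t) (zpowers u) (hp t ht) (hp u hu)
    (by rw [Nat.card_zpowers, Nat.card_zpowers, ht, hu])
  refine ⟨g, ?_⟩
  obtain ⟨y, hy, hyu⟩ := Subgroup.mem_map.1 (hg ▸ mem_zpowers u)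
  rcases EqualOrder.eq_one_or_self ht hy with rfl | rfl
  · simp only [map_one] at hyu
    rw [← hyu, orderOf_one] at hu
    omega
  · simpa using hyu

theorem PConj.mem_of_ne_bot (hC : PConj 2 G) (hO : Cfsg.oddCore G = ⊥) {R : Subgroup G} (hR : R.Normal)
    (h : R ≠ ⊥) {t : G} (ht : orderOf t = 2) : t ∈ R := by
  haveI : Fact (Nat.Prime 2) := ⟨Nat.prime_two⟩
  have h2 : 2 ∣ Nat.card R := by
    rw [← even_iff_two_dvd, ← Nat.not_odd_iff_even]
    exact fun hodd => h (le_bot_iff.1 (hO ▸ SEBrick.le_oddCore hR hodd))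
  obtain ⟨⟨i, hi⟩, hi2⟩ := exists_prime_orderOf_dvd_card' 2 h2
  rw [orderOf_mk] at hi2
  obtain ⟨g, rfl⟩ := hC.one_class hi2 ht
  exact hR.conj_mem i hi g

/-- A commutative normal subgroup with all the involutions makes the group soluble. -/
theorem solvable_of_abelian (hsq : EqualOrder.SqTwo G) (A : Subgroup G) [A.Normal]
    (hcm : ∀ a ∈ A, ∀ b ∈ A, a * b = b * a) (hall : ∀ t : G, orderOf t = 2 → t ∈ A) : Group.IsSolvable G := by
  haveI : Fact (Nat.Prime 2) := ⟨Nat.prime_two⟩
  obtain ⟨S⟩ : Nonempty (Sylow 2 G) := inferInstance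
  have hSA : (S : Subgroup G) ≤ A := fun s hs => by
    rcases eq_or_ne s 1 with rfl | h1
    · exact one_mem _
    · exact hall s (orderOf_eq_prime (by rw [pow_two]; exact EqualOrder.sylow_sq hsq S s hs) h1)
  have hidx : Odd A.index := by
    rw [Nat.odd_iff]
    by_contra h
    exact S.not_dvd_index ((show 2 ∣ A.index by omega).trans (Subgroup.index_dvd_of_le hSA))
  haveI : Group.IsSolvable A := Group.isSolvable_of_comm fun a b => Subtype.ext (hcm a a.2 b b.2)
  haveI : Group.IsSolvable (G ⧸ A) := S0205.result (by rwa [← Subgroup.index_eq_card])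
  exact solvable_of_ker_le_range A.subtype (QuotientGroup.mk' A) (by rw [QuotientGroup.ker_mk', range_subtype])

/-- The socle. -/
theorem socle (hC : PConj 2 G) (hO : Cfsg.oddCore G = ⊥) (hsq : EqualOrder.SqTwo G)
    (hns : ¬ Group.IsSolvable G) :
    ∃ N : Subgroup G, N.Normal ∧ IsSimpleGroup N ∧ centralizer (N : Set G) = ⊥ ∧ ¬ IsMulCommutative N := by
  classical
  haveI : Fact (Nat.Prime 2) := ⟨Nat.prime_two⟩
  have hbt : (⊤ : Subgroup G) ≠ ⊥ := fun h => by
    refine hns (Group.isSolvable_of_comm fun a b => ?_)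
    have h1 : ∀ x : G, x = 1 := fun x => (mem_bot).1 (h ▸ mem_top x)
    rw [h1 a, h1 b]
  obtain ⟨N, hN, hN1, -, hmin⟩ := LEWielandt.exists_minimal_normal (inferInstance : (⊤ : Subgroup G).Normal) hbt
  haveI := hN
  have hab : ∀ A : Subgroup G, A.Normal → A ≠ ⊥ → ¬ ∀ a ∈ A, ∀ b ∈ A, a * b = b * a := fun A hA h1 hcm => by
    haveI := hA
    exact hns (solvable_of_abelian hsq A hcm fun t ht => hC.mem_of_ne_bot hO hA h1 ht)
  have hNna : ¬ IsMulCommutative N := fun h =>
    hab N hN hN1 fun a ha b hb => congrArg Subtype.val (h.is_comm.comm ⟨a, ha⟩ ⟨b, hb⟩)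
  have hcN : centralizer (N : Set G) = ⊥ := by
    by_contra h
    have hev : 2 ∣ Nat.card ↥(centralizer (N : Set G)) := by
      rw [← even_iff_two_dvd, ← Nat.not_odd_iff_even]
      exact fun hodd => h (le_bot_iff.1 (hO ▸ SEBrick.le_oddCore inferInstance hodd))
    obtain ⟨⟨t, htc⟩, ht⟩ := exists_prime_orderOf_dvd_card' 2 hev
    rw [orderOf_mk] at ht
    have htN := hC.mem_of_ne_bot hO hN hN1 ht
    rcases hmin (N ⊓ centralizer (N : Set G)) inferInstance inf_le_left with h1 | h1
    · have : t = 1 := (mem_bot).1 (h1 ▸ mem_inf.2 ⟨htN, htc⟩)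
      rw [this, orderOf_one] at ht
      omega
    · exact hab N hN hN1 fun a ha b hb => mem_centralizer_iff.1 (mem_inf.1 (h1.symm ▸ hb)).2 a ha
  refine ⟨N, hN, ?_, hcN, hNna⟩
  -- conjugates inside the socle
  let c : G → (N →* N) := fun g => (MulAut.conjNormal g : MulAut N).toMonoidHom
  have hc : ∀ g, Function.Bijective (c g) := fun g => (MulAut.conjNormal g : MulAut N).bijective
  have hON : Cfsg.oddCore N = ⊥ := by
    have hn : ((Cfsg.oddCore N).map N.subtype).Normal := by
      refine ⟨?_⟩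
      rintro _ ⟨x, hx, rfl⟩ g
      haveI : (Cfsg.oddCore N).Normal := Cfsg.pPrimeCore_normal 2 N
      have hle : (Cfsg.oddCore N).map (c g) ≤ Cfsg.oddCore N :=
        SEBrick.le_oddCore (Subgroup.Normal.map inferInstance _ (hc g).2)
          (by rw [card_map_of_injective (hc g).1]; exact SEBrick.oddCore_odd)
      exact ⟨c g x, hle (mem_map_of_mem _ hx), MulAut.conjNormal_apply _ _⟩
    refine (map_eq_bot_iff_of_injective _ N.subtype_injective).1 (le_bot_iff.1 (hO ▸ SEBrick.le_oddCore hn ?_))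
    rw [card_map_of_injective N.subtype_injective]
    exact SEBrick.oddCore_odd
  haveI : Nontrivial N := (Subgroup.nontrivial_iff_ne_bot N).2 hN1
  suffices key : ∀ M : Subgroup N, M.Normal → M ≠ ⊥ →
      (∀ K : Subgroup N, K.Normal → K ≤ M → K = ⊥ ∨ K = M) → M = ⊤ by
    refine { eq_bot_or_eq_top_of_normal := fun R hR => ?_ }
    by_cases hR1 : R = ⊥
    · exact Or.inl hR1
    obtain ⟨M, hM, hM1, hMR, hMm⟩ := LEWielandt.exists_minimal_normal hR hR1
    exact Or.inr (top_le_iff.1 (key M hM hM1 hMm ▸ hMR))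
  intro M hM hM1 hMm
  have hMn : ∀ g, (M.map (c g)).Normal := fun g => hM.map _ (hc g).2
  have hMmin : ∀ g, ∀ K : Subgroup N, K.Normal → K ≤ M.map (c g) → K = ⊥ ∨ K = M.map (c g) := by
    intro g K hK hle
    rcases hMm (K.comap (c g)) (hK.comap _) (fun x hx => by
      obtain ⟨y, hy, hyx⟩ := hle (show c g x ∈ K from hx)
      exact (hc g).1 hyx ▸ hy) with h | h
    · exact Or.inl (by rw [← map_comap_eq_self_of_surjective (hc g).2 K, h, Subgroup.map_bot])
    · exact Or.inr (by rw [← map_comap_eq_self_of_surjective (hc g).2 K, h])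
  have hdis : ∀ g h, M.map (c g) ≠ M.map (c h) → ∀ x ∈ M.map (c g), ∀ y ∈ M.map (c h),
      x * y = y * x := fun g h hne x hx y hy => by
    haveI := hMn g
    haveI := hMn h
    refine Subgroup.commute_of_normal_of_disjoint _ _ (hMn g) (hMn h) ?_ x y hx hy
    rw [disjoint_iff]
    rcases hMmin g (M.map (c g) ⊓ M.map (c h)) inferInstance inf_le_left with e | e
    · exact e
    · refine absurd (eq_of_le_of_card_ge (inf_eq_left.1 e) ?_) hne
      rw [card_map_of_injective (hc h).1, card_map_of_injective (hc g).1]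
  have hc1 : M.map (c 1) = M := by
    have : c 1 = MonoidHom.id N := MonoidHom.ext fun x => Subtype.ext (by simp [c])
    rw [this, map_id]
  by_cases hinv : ∀ g, M.map (c g) = M
  · have hn : (M.map N.subtype).Normal := by
      refine ⟨?_⟩
      rintro _ ⟨x, hx, rfl⟩ g
      exact ⟨c g x, (hinv g).le (mem_map_of_mem _ hx), MulAut.conjNormal_apply _ _⟩
    rcases hmin _ hn (map_subtype_le M) with h | h
    · exact absurd ((map_eq_bot_iff_of_injective _ N.subtype_injective).1 h) hM1
    · refine eq_top_iff.2 fun x _ => ?_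
      have hx := x.2
      conv at hx => arg 1; rw [← h]
      obtain ⟨y, hy, hyx⟩ := hx
      exact Subtype.ext hyx ▸ hy
  exfalso
  push Not at hinv
  obtain ⟨g, hg⟩ := hinv
  obtain ⟨⟨t, htM⟩, ht⟩ : ∃ t : M, orderOf t = 2 := exists_prime_orderOf_dvd_card' 2 (by
    rw [← even_iff_two_dvd, ← Nat.not_odd_iff_even]
    exact fun hodd => hM1 (le_bot_iff.1 (hON ▸ SEBrick.le_oddCore hM hodd)))
  rw [orderOf_mk] at ht
  set u := c g t with hu
  have hu2 : orderOf u = 2 := (orderOf_injective _ (hc g).1 t).trans ht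
  have huM : u ∈ M.map (c g) := mem_map_of_mem _ htM
  have htu : t * u = u * t := hdis 1 g (by rw [hc1]; exact hg.symm) t (by rw [hc1]; exact htM) u huM
  have hinf : u ∉ M := fun h => by
    rcases hMm (M ⊓ M.map (c g)) (by haveI := hMn g; infer_instance) inf_le_left with e | e
    · have : u = 1 := (mem_bot).1 (e ▸ mem_inf.2 ⟨h, huM⟩)
      rw [this, orderOf_one] at hu2
      omega
    · exact hg (eq_of_le_of_card_ge (inf_eq_left.1 e)
        (by rw [card_map_of_injective (hc g).1])).symm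
  have htu2 : orderOf (t * u) = 2 := orderOf_eq_prime (by
    rw [(show Commute t u from htu).mul_pow]
    conv_lhs => arg 1; arg 2; rw [← ht]
    conv_lhs => arg 2; arg 2; rw [← hu2]
    rw [pow_orderOf_eq_one, pow_orderOf_eq_one, one_mul]) fun h => hinf (by
      rw [eq_inv_of_mul_eq_one_right h]; exact inv_mem htM)
  obtain ⟨h, hh⟩ := hC.one_class (t := (t : G)) (u := ((t * u : N) : G)) (by rwa [orderOf_coe])
    (by rwa [orderOf_coe])
  have htuM : t * u ∈ M.map (c h) :=
    ⟨t, htM, Subtype.ext ((MulAut.conjNormal_apply h t).trans hh)⟩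
  have hh1 : M.map (c h) ≠ M := fun e => hinf (by
    have := mul_mem (inv_mem htM) (e ▸ htuM)
    simpa using this)
  have htc : ∀ x ∈ M, x * t = t * x := fun x hx => by
    have h1 := hdis 1 g (by rw [hc1]; exact hg.symm) x (by rw [hc1]; exact hx) u huM
    have h2 := hdis 1 h (by rw [hc1]; exact hh1.symm) x (by rw [hc1]; exact hx) (t * u) htuM
    refine mul_right_cancel (b := u) ?_
    rw [mul_assoc, h2, mul_assoc, mul_assoc, h1]
  have hMcm : ∀ a ∈ M, ∀ b ∈ M, a * b = b * a := by
    rcases hMm (M ⊓ centralizer (M : Set N)) (by haveI := hM; infer_instance) inf_le_left with e | e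
    · have : t = 1 := (mem_bot).1 (e ▸ mem_inf.2 ⟨htM, mem_centralizer_iff.2 htc⟩)
      rw [this, orderOf_one] at ht
      omega
    · exact fun a ha b hb => mem_centralizer_iff.1 (mem_inf.1 (e.symm ▸ hb)).2 a ha
  have hall : ∀ g h, ∀ x ∈ M.map (c g), ∀ y ∈ M.map (c h), x * y = y * x := fun g h x hx y hy => by
    by_cases e : M.map (c g) = M.map (c h)
    · obtain ⟨a, ha, rfl⟩ := hx
      obtain ⟨b, hb, rfl⟩ := (e ▸ hy : y ∈ M.map (c g))
      rw [← map_mul, ← map_mul, hMcm a ha b hb]
    · exact hdis g h e x hx y hy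
  refine hab (normalClosure ((M.map N.subtype : Subgroup G) : Set G)) normalClosure_normal ?_ ?_
  · intro e
    exact hM1 ((map_eq_bot_iff_of_injective _ N.subtype_injective).1 (le_bot_iff.1 (e ▸ le_normalClosure)))
  · have hcl : IsMulCommutative ↥(Subgroup.closure (Group.conjugatesOfSet ((M.map N.subtype : Subgroup G) : Set G))) := by
      refine Subgroup.isMulCommutative_closure ?_
      intro a ha b hb
      obtain ⟨_, ⟨a₀, ha₀, rfl⟩, hac⟩ := Group.mem_conjugatesOfSet_iff.1 ha
      obtain ⟨_, ⟨b₀, hb₀, rfl⟩, hbc⟩ := Group.mem_conjugatesOfSet_iff.1 hb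
      obtain ⟨i, rfl⟩ := isConj_iff.1 hac
      obtain ⟨j, rfl⟩ := isConj_iff.1 hbc
      have := congrArg Subtype.val (hall i j _ (mem_map_of_mem (c i) ha₀) _ (mem_map_of_mem (c j) hb₀))
      simpa [c, MulAut.conjNormal_apply] using this
    exact fun a ha b hb => congrArg Subtype.val (hcl.is_comm.comm ⟨a, ha⟩ ⟨b, hb⟩)

/-- Elementary abelian Sylow 2-subgroups of rank at least two. -/
theorem elementary (hC : ∀ p : ℕ, p.Prime → PConj p G) (hO : Cfsg.oddCore G = ⊥) (hsq : EqualOrder.SqTwo G)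
    (S : Sylow 2 G) {e : ℕ} (he : 2 ≤ e) (hcard : Nat.card (S : Subgroup G) = 2 ^ e) :
    EqualOrder.SolvableList G e ∨ Cfsg.IsJ1 G ∨ LinearP G := by
  classical
  haveI : Fact (Nat.Prime 2) := ⟨Nat.prime_two⟩
  by_cases hsol : Group.IsSolvable G
  · exact Or.inl (EqualOrder.solvable_case_of hO hsq hsol S
      (fun A B hA hB h => hC 2 Nat.prime_two A B (S.2.to_le hA) (S.2.to_le hB) h) he hcard)
  refine Or.inr ?_
  obtain ⟨N, hN, hNs, hcN, hna⟩ := socle (hC 2 Nat.prime_two) hO hsq hsol
  haveI := hN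
  haveI := hNs
  have hA : ∀ (r : ℕ), r.Prime → ∀ (P : Sylow r N), IsMulCommutative ↥P := by
    intro r hr P
    haveI := Fact.mk hr
    obtain ⟨R, hR⟩ := (P.2.map N.subtype).exists_le_sylow
    have hRc : ∀ a ∈ (R : Subgroup G), ∀ b ∈ (R : Subgroup G), a * b = b * a := by
      rcases eq_or_ne r 2 with rfl | hr2
      · exact EqualOrder.comm_of_sq (EqualOrder.sylow_sq hsq R)
      rcases shape (hC r hr) R with hE | hcy | ⟨h, -⟩
      · exact comm_of_exp (hC r hr) (hC 2 Nat.prime_two) hr2 hE R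
      · intro a ha b hb
        letI := hcy.commGroup
        exact congrArg Subtype.val (mul_comm (⟨a, ha⟩ : (R : Subgroup G)) ⟨b, hb⟩)
      · exact absurd h hr2
    exact ⟨⟨fun a b => Subtype.ext (Subtype.ext
      (hRc _ (hR (mem_map_of_mem N.subtype a.2)) _ (hR (mem_map_of_mem N.subtype b.2))))⟩⟩
  rcases S2554.result hna hA with ⟨⟨eJ⟩⟩ | ⟨F, i1, i2, h3, h8, ⟨eN⟩⟩
  · refine Or.inl ?_
    haveI : Subsingleton (Cfsg.Out ↥Cfsg.Spor.J1) := (Nat.card_eq_one_iff_unique.1 S2065.result).1
    have htop : N = ⊤ := by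
      refine eq_top_iff.2 fun g _ => ?_
      obtain ⟨j, hj⟩ : MulAut.congr eJ (MulAut.conjNormal g) ∈ Cfsg.Inn ↥Cfsg.Spor.J1 :=
        (QuotientGroup.eq_one_iff _).1 (Subsingleton.elim _ _)
      set n := eJ.symm j
      have hgn : ∀ x : N, g * (x : G) * g⁻¹ = (n : G) * x * (n : G)⁻¹ := fun x => by
        have h1 := DFunLike.congr_fun hj (eJ x)
        simp [MulAut.congr] at h1
        have h2 : MulAut.conjNormal g x = n * x * n⁻¹ := eJ.injective (by simp [n, ← h1])
        simpa [MulAut.conjNormal_apply] using congrArg Subtype.val h2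
      have : (n : G)⁻¹ * g ∈ centralizer (N : Set G) := mem_centralizer_iff.2 fun x hx => by
        have h1 : g * x = (n : G) * x * (n : G)⁻¹ * g := eq_mul_of_mul_inv_eq (hgn ⟨x, hx⟩)
        rw [mul_assoc (n : G)⁻¹ g x, h1]
        group
      rw [hcN, mem_bot, inv_mul_eq_one] at this
      exact this ▸ n.2
    let eG : G ≃* ↥Cfsg.Spor.J1 := ((topEquiv.symm.trans (MulEquiv.subgroupCongr htop.symm)).trans eJ)
    haveI := J1.isSimple_J1
    haveI : Nontrivial G := eG.toEquiv.nontrivial
    exact ⟨IsSimpleGroup.isSimpleGroup_of_surjective eG.symm.toMonoidHom eG.symm.surjective,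
      (Nat.card_congr eG.toEquiv).trans J1.card_J1⟩
  · refine Or.inr ?_
    letI := i1
    letI := i2
    refine psl_case hC hsq N hcN ?_ eN
    rcases h8 with h8 | h8
    · refine Or.inr ?_
      obtain ⟨p, hp⟩ := CharP.exists F
      obtain ⟨f, hpp, hqf⟩ := FiniteField.card F p
      obtain rfl : p = 2 := ((Nat.prime_dvd_prime_iff_eq Nat.prime_two hpp).1 (Nat.prime_two.dvd_of_dvd_pow
        (n := f) (hqf ▸ (show 2 ∣ Fintype.card F by omega)))).symm
      refine ⟨f, ?_, hqf⟩
      by_contra hlt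
      rw [hqf, show (f : ℕ) = 1 by have := f.pos; omega] at h3
      omega
    · exact Or.inl ⟨h8, by omega⟩

/-- A perfect cover of `PSL₂(q)`, `q ≡ ±3 (mod 8)`, with non-trivial centre is `SL₂(q)`. -/
theorem sl_of_center {F : Type} [Field F] [Fintype F] (h8 : Fintype.card F % 8 = 3 ∨ Fintype.card F % 8 = 5)
    (h5 : 5 ≤ Fintype.card F) (hp : commutator G = ⊤)
    (e : G ⧸ Subgroup.center G ≃* Matrix.ProjectiveSpecialLinearGroup (Fin 2) F) (hZ : Subgroup.center G ≠ ⊥) :
    Nonempty (G ≃* Matrix.SpecialLinearGroup (Fin 2) F) := by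
  classical
  haveI : Fact (Nat.Prime 2) := ⟨Nat.prime_two⟩
  have h0 := S2086.result (F := F) rfl 2 le_rfl (fun _ => by omega) (by
      simp only [Set.mem_insert_iff, Set.mem_singleton_iff, Prod.mk.injEq]
      omega)
  rw [show Nat.gcd 2 (Fintype.card F - 1) = 2 from Nat.gcd_eq_left (by omega)] at h0
  obtain ⟨-, hM⟩ := (Schur.hasCyclicSchurMultiplier_iff _).1 h0
  haveI hMc := isCyclic_of_prime_card hM
  set σ := e.toMonoidHom.comp (QuotientGroup.mk' (Subgroup.center G))
  have hs : Function.Surjective σ := e.surjective.comp (QuotientGroup.mk'_surjective _)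
  have hk : σ.ker = Subgroup.center G := by
    ext x; simp [σ]
  have hd := Schur.card_dvd_card_multiplier σ hs hk.le
  rw [hp, inf_top_eq, hM] at hd
  have h2 : Nat.card σ.ker = 2 := by
    rcases (Nat.dvd_prime Nat.prime_two).1 hd with h | h
    · exact absurd (hk ▸ Subgroup.eq_bot_of_card_eq _ h) hZ
    · exact h
  haveI := isCyclic_of_prime_card h2
  set τ := QuotientGroup.mk' (Subgroup.center (Matrix.SpecialLinearGroup (Fin 2) F))
  obtain ⟨a, ha⟩ := SLPres.exists_unit_sq_ne_one (K := F)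
    (by rw [Nat.card_eq_fintype_card]; omega) (by rw [Nat.card_eq_fintype_card]; omega)
  have hperf : commutator (Matrix.SpecialLinearGroup (Fin 2) F) = ⊤ :=
    Matrix.SL2.commutator_eq_top (a := (a : F)) a.ne_zero fun h => ha (Units.ext (by simpa using h))
  have hτk : Nat.card τ.ker = 2 := by
    rw [QuotientGroup.ker_mk', ClassicalSL.card_center_sl, Fintype.card_fin, Nat.card_eq_fintype_card (α := F)]
    exact Nat.gcd_eq_left (by omega)
  haveI := isCyclic_of_prime_card hτk
  have hQ : commutator (Matrix.ProjectiveSpecialLinearGroup (Fin 2) F) = ⊤ := by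
    rw [eq_top_iff, ← Subgroup.map_top_of_surjective σ hs, ← hp, _root_.commutator_def, Subgroup.map_commutator]
    exact Subgroup.commutator_mono le_top le_top
  have hcop : Nat.Coprime (Nat.card (Abelianization (Matrix.ProjectiveSpecialLinearGroup (Fin 2) F)))
      (Nat.card (Schur.Multiplier (Matrix.ProjectiveSpecialLinearGroup (Fin 2) F))) := by
    have : Nat.card (Abelianization (Matrix.ProjectiveSpecialLinearGroup (Fin 2) F)) = 1 := by
      show (commutator (Matrix.ProjectiveSpecialLinearGroup (Fin 2) F)).index = 1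
      rw [hQ, Subgroup.index_top]
    rw [this]
    exact Nat.coprime_one_left _
  obtain ⟨f, -⟩ := Schur.cover_unique σ τ ⟨hs, hk.le, by rw [hp]; exact le_top⟩
    ⟨QuotientGroup.mk'_surjective _, (QuotientGroup.ker_mk' _).le, by rw [hperf]; exact le_top⟩
    ⟨mulEquivOfCyclicCardEq (by rw [hM, h2])⟩ ⟨mulEquivOfCyclicCardEq (by rw [hM, hτk])⟩ hcop
  exact ⟨f⟩

theorem pow_three_mod {p : ℕ} (h : p % 8 = 3 ∨ p % 8 = 5) : p ^ 3 % 8 = p % 8 := by
  rw [Nat.pow_mod]
  rcases h with h | h <;> rw [h]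

/-- Quaternion Sylow 2-subgroups. -/
theorem quaternion_case (hC : ∀ p : ℕ, p.Prime → PConj p G) (hO : Cfsg.oddCore G = ⊥) (S : Sylow 2 G)
    (f : (S : Subgroup G) ≃* QuaternionGroup 2) : ListP G := by
  classical
  haveI : Fact (Nat.Prime 2) := ⟨Nat.prime_two⟩
  set Z := center G with hZ
  have hZ2 : Nat.card Z = 2 := S0201.result S 0 f fun N hN ho =>
    le_bot_iff.1 (hO ▸ SEBrick.le_oddCore hN ho)
  have hS8 : Nat.card (S : Subgroup G) = 8 := by
    rw [Nat.card_congr f.toEquiv, Nat.card_eq_fintype_card, QuaternionGroup.card]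
  have hZS : Z ≤ (S : Subgroup G) := fun z hz => by
    have h2 : IsPGroup 2 ↥((S : Subgroup G) ⊔ Z) := S.2.to_sup_of_normal_right
      (IsPGroup.of_card (n := 1) (by rw [hZ2, pow_one]))
    exact (S.3 h2 le_sup_left).le (le_sup_right (a := (S : Subgroup G)) hz)
  obtain ⟨⟨z, hz⟩, hz1⟩ : ∃ z : Z, z ≠ 1 := by
    haveI : Nontrivial Z := by rw [← Finite.one_lt_card_iff_nontrivial, hZ2]; norm_num
    exact exists_ne 1
  have hz1' : z ≠ 1 := fun h => hz1 (Subtype.ext h)
  have hz2 : z * z = 1 := by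
    have := congrArg Subtype.val (pow_card_eq_one' (x := (⟨z, hz⟩ : Z)))
    rw [hZ2] at this
    simpa [pow_two] using this
  have hfz : f ⟨z, hZS hz⟩ = QuaternionGroup.a 2 := by
    refine (EqualOrder.invol_unique _ ?_).resolve_left fun h => hz1' ?_
    · rw [← map_mul, show (⟨z, hZS hz⟩ : (S : Subgroup G)) * ⟨z, hZS hz⟩ = 1 from Subtype.ext hz2, map_one]
    · exact congrArg Subtype.val (f.map_eq_one_iff.1 h)
  -- the only involution
  have huniq : ∀ t : G, orderOf t = 2 → t = z := fun t ht => by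
    obtain ⟨g, hg⟩ := (hC 2 Nat.prime_two).one_class (orderOf_eq_prime (by rw [pow_two]; exact hz2) hz1') ht
    rw [← hg, mem_center_iff.1 hz g, mul_inv_cancel_right]
  have hev : ∀ H : Subgroup G, 2 ∣ Nat.card H → z ∈ H := fun H h => by
    obtain ⟨⟨t, htH⟩, ht⟩ := exists_prime_orderOf_dvd_card' 2 h
    rw [orderOf_mk] at ht
    exact huniq t ht ▸ htH
  have hsqZ : ∀ s ∈ (S : Subgroup G), s * s ∈ Z := fun s hs => by
    rcases EqualOrder.sq_quaternion (f ⟨s, hs⟩) with h | h
    · have : s * s = 1 := congrArg Subtype.val (f.injective ((map_mul f _ _).trans (h.trans (map_one f).symm)))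
      exact this ▸ one_mem _
    · have : s * s = z := congrArg Subtype.val (f.injective ((map_mul f _ _).trans (h.trans hfz.symm)))
      exact this ▸ hz
  set π := QuotientGroup.mk' Z
  have hπs : Function.Surjective π := QuotientGroup.mk'_surjective Z
  let S' : Sylow 2 (G ⧸ Z) := S.mapSurjective hπs
  have hS'4 : Nat.card (S' : Subgroup (G ⧸ Z)) = 4 := by
    have h := Subgroup.card_mul_index (Z.subgroupOf (S : Subgroup G))
    rw [Nat.card_congr (subgroupOfEquivOfLe hZS).toEquiv, hZ2, hS8] at h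
    have e1 : Nat.card ((S : Subgroup G).map π) = (Z.subgroupOf (S : Subgroup G)).index := by
      have h2 := Subgroup.index_ker (π.comp (S : Subgroup G).subtype)
      rw [MonoidHom.range_comp, range_subtype] at h2
      rw [← h2, ← MonoidHom.comap_ker, QuotientGroup.ker_mk']
      rfl
    show Nat.card ((S : Subgroup G).map π) = 4
    omega
  have hsq' : EqualOrder.SqTwo (G ⧸ Z) := fun g hg => by
    obtain ⟨k, hk⟩ := hg
    obtain ⟨R, hR⟩ := (IsPGroup.of_card (p := 2) (n := k) (by rw [Nat.card_zpowers, hk]) :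
      IsPGroup 2 (zpowers g)).exists_le_sylow
    obtain ⟨c, hc⟩ := MulAction.exists_smul_eq (G ⧸ Z) S' R
    have hgR := hR (mem_zpowers g)
    rw [← hc, Sylow.coe_subgroup_smul] at hgR
    obtain ⟨y, hy, rfl⟩ := hgR
    obtain ⟨s, hs, rfl⟩ := (hy : y ∈ (S : Subgroup G).map π)
    have h1 : π s * π s = 1 := by
      rw [← map_mul]; exact (QuotientGroup.eq_one_iff _).2 (hsqZ s hs)
    simp only [MulDistribMulAction.toMonoidEnd_apply, MulDistribMulAction.toMonoidHom_apply, MulAut.smul_def]
    rw [← map_mul, h1, map_one]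
  have hO' : Cfsg.oddCore (G ⧸ Z) = ⊥ := by
    set M := (Cfsg.oddCore (G ⧸ Z)).comap π with hM
    have hModd : Nat.card M = 2 * Nat.card (Cfsg.oddCore (G ⧸ Z)) := by
      rw [← hZ2]
      exact QuotientGroup.card_preimage_mk Z (Cfsg.oddCore (G ⧸ Z) : Set (G ⧸ Z))
    have hZM : Z ≤ M := fun x hx => by
      show π x ∈ Cfsg.oddCore (G ⧸ Z)
      rw [show π x = 1 from (QuotientGroup.eq_one_iff x).2 hx]
      exact one_mem _
    haveI : (Cfsg.oddCore (G ⧸ Z)).Normal := Cfsg.pPrimeCore_normal 2 (G ⧸ Z)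
    have hodd := SEBrick.oddCore_odd (G := G ⧸ Z)
    have hidx : (Z.subgroupOf M).index = Nat.card (Cfsg.oddCore (G ⧸ Z)) := by
      have h := Subgroup.card_mul_index (Z.subgroupOf M)
      rw [Nat.card_congr (subgroupOfEquivOfLe hZM).toEquiv, hZ2, hModd] at h
      omega
    obtain ⟨K, hK⟩ := exists_right_complement'_of_coprime (N := Z.subgroupOf M) (by
      rw [Nat.card_congr (subgroupOfEquivOfLe hZM).toEquiv, hZ2, hidx]
      exact Nat.coprime_two_left.2 hodd)
    have hKc : Nat.card K = Nat.card (Cfsg.oddCore (G ⧸ Z)) := by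
      have h := hK.card_mul
      rw [Nat.card_congr (subgroupOfEquivOfLe hZM).toEquiv, hZ2, hModd] at h
      omega
    have hin : ∀ x : M, Odd (orderOf x) → x ∈ K := fun x hx => by
      obtain ⟨⟨u, k⟩, huk⟩ := hK.2 x
      have hu : Commute (u : M) (k : M) :=
        Subtype.ext ((mem_center_iff.1 (Subgroup.mem_subgroupOf.1 u.2) _).symm)
      have h1 : (u : M) ^ 2 = 1 := by
        have h := congrArg Subtype.val (pow_card_eq_one' (x := u))
        have hc2 : Nat.card ↥(Z.subgroupOf M) = 2 :=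
          (Nat.card_congr (subgroupOfEquivOfLe hZM).toEquiv).trans hZ2
        have h2 := pow_card_eq_one' (x := u)
        erw [hc2] at h2
        exact congrArg Subtype.val h2
      have h2 : x ^ 2 ∈ K := by
        rw [show x = (u : M) * k from huk.symm, hu.mul_pow, h1, one_mul]
        exact pow_mem k.2 2
      obtain ⟨r, hr⟩ := hx
      have : x = (x ^ 2) ^ (r + 1) := by
        rw [← pow_mul, show 2 * (r + 1) = orderOf x + 1 by omega, pow_succ, pow_orderOf_eq_one, one_mul]
      rw [this]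
      exact pow_mem h2 _
    have hKn : (K.map M.subtype).Normal := by
      refine ⟨?_⟩
      rintro _ ⟨x, hx, rfl⟩ g
      have hgM : g * (x : G) * g⁻¹ ∈ M := Subgroup.Normal.conj_mem inferInstance _ x.2 g
      refine ⟨⟨_, hgM⟩, hin _ ?_, rfl⟩
      rw [← orderOf_coe]
      show Odd (orderOf (MulAut.conj g (x : G)))
      rw [MulEquiv.orderOf_eq, orderOf_coe]
      have hd := orderOf_dvd_natCard (⟨x, hx⟩ : K)
      rw [orderOf_mk] at hd
      exact Odd.of_dvd_nat (hKc ▸ hodd) hd
    have hKb : K.map M.subtype = ⊥ := le_bot_iff.1 (hO ▸ SEBrick.le_oddCore hKn (by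
      rw [card_map_of_injective M.subtype_injective, hKc]; exact hodd))
    apply Subgroup.eq_bot_of_card_eq
    rw [← hKc, ← card_map_of_injective M.subtype_injective, hKb, card_bot]
  have hev' : 2 ∣ Nat.card G := (hZ2 ▸ Subgroup.card_subgroup_dvd_card Z)
  have hG : Nat.card G = 2 * Nat.card (G ⧸ Z) := by
    rw [← Subgroup.card_mul_index Z, hZ2, Subgroup.index_eq_card]
  have hX4 : ¬ 8 ∣ Nat.card (G ⧸ Z) := fun h => by
    have h1 := Subgroup.card_mul_index (S' : Subgroup (G ⧸ Z))
    rw [hS'4] at h1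
    have := S'.not_dvd_index
    rw [← h1] at h
    exact this (Nat.dvd_of_mul_dvd_mul_left (by norm_num : 0 < 4) h)
  have hX2 : 2 ∣ Nat.card (G ⧸ Z) :=
    (by rw [hS'4]; norm_num : 2 ∣ Nat.card (S' : Subgroup (G ⧸ Z))).trans (Subgroup.card_subgroup_dvd_card _)
  have hlin : ∀ {F : Type} [Field F] [Fintype F], (Fintype.card F % 8 = 3 ∨ Fintype.card F % 8 = 5) →
      5 ≤ Fintype.card F → (G ⧸ Z ≃* Matrix.ProjectiveSpecialLinearGroup (Fin 2) F) →
      Nonempty (G ≃* Matrix.SpecialLinearGroup (Fin 2) F) := by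
    intro F _ _ h8 h5 i
    set σ := i.toMonoidHom.comp π
    have hσ : Function.Surjective σ := i.surjective.comp hπs
    obtain ⟨a, ha⟩ := SLPres.exists_unit_sq_ne_one (K := F)
      (by rw [Nat.card_eq_fintype_card]; omega) (by rw [Nat.card_eq_fintype_card]; omega)
    have hperf : commutator (Matrix.SpecialLinearGroup (Fin 2) F) = ⊤ :=
      Matrix.SL2.commutator_eq_top (a := (a : F)) a.ne_zero fun h => ha (Units.ext (by simpa using h))
    have hP : commutator (Matrix.ProjectiveSpecialLinearGroup (Fin 2) F) = ⊤ := by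
      rw [eq_top_iff, ← Subgroup.map_top_of_surjective
        (QuotientGroup.mk' (Subgroup.center (Matrix.SpecialLinearGroup (Fin 2) F)))
        (QuotientGroup.mk'_surjective _), ← hperf, _root_.commutator_def, Subgroup.map_commutator]
      exact Subgroup.commutator_mono le_top le_top
    have hmap : (commutator G).map σ = ⊤ := by
      rw [_root_.commutator_def, map_commutator, map_top_of_surjective σ hσ]
      exact hP
    have hz' : z ∈ commutator G := hev _ (by
      refine dvd_trans ?_ (Subgroup.card_map_dvd (commutator G) σ)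
      rw [hmap, card_top, ← Nat.card_congr i.toEquiv]
      exact hX2)
    have hp : commutator G = ⊤ := by
      refine eq_top_iff.2 fun g _ => ?_
      obtain ⟨x, hx, hxg⟩ := (hmap.symm ▸ mem_top (σ g) : σ g ∈ (commutator G).map σ)
      have hker : x⁻¹ * g ∈ Z := QuotientGroup.eq.1 (i.injective hxg : π x = π g)
      have : x⁻¹ * g ∈ commutator G := by
        rcases eq_or_ne (x⁻¹ * g) 1 with h | h
        · rw [h]; exact one_mem _
        · have h2 : (x⁻¹ * g) ^ 2 = 1 := by
            have := congrArg Subtype.val (pow_card_eq_one' (x := (⟨_, hker⟩ : Z)))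
            rw [hZ2] at this
            simpa using this
          rw [huniq _ (orderOf_eq_prime h2 h)]
          exact hz'
      simpa using mul_mem hx this
    exact sl_of_center h8 h5 hp i fun h => hz1' (by
      rw [← mem_bot, ← h]; exact hz)
  have halt : (G ⧸ Z ≃* alternatingGroup (Fin 4)) → Nonempty (G ≃* Matrix.SpecialLinearGroup (Fin 2) (ZMod 3)) := by
    intro i
    set σ := i.toMonoidHom.comp π
    have hσ : Function.Surjective σ := i.surjective.comp hπs
    have hA4 : Nat.card (alternatingGroup (Fin 4)) = 12 := by rw [Nat.card_eq_fintype_card]; decide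
    refine GW.solvable_case S (m := 1) le_rfl f hO (fun M hM => ?_) ?_
    · have hd := Subgroup.index_map_dvd M hσ
      rw [hM] at hd
      rcases (Nat.dvd_prime Nat.prime_two).1 hd with h1 | h2
      · rw [Subgroup.index_eq_one] at h1
        have hMev : 2 ∣ Nat.card M := by
          have h := Subgroup.card_mul_index M
          rw [hM, hG, Nat.card_congr i.toEquiv, hA4] at h
          omega
        have hzM := hev M hMev
        have htop : M = ⊤ := by
          refine eq_top_iff.2 fun g _ => ?_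
          obtain ⟨x, hx, hxg⟩ := (h1.symm ▸ mem_top (σ g) : σ g ∈ M.map σ)
          have hker : x⁻¹ * g ∈ Z := by
            have : π x = π g := i.injective hxg
            exact QuotientGroup.eq.1 this
          have hzc : x⁻¹ * g = 1 ∨ x⁻¹ * g = z := by
            rcases eq_or_ne (x⁻¹ * g) 1 with h | h
            · exact Or.inl h
            refine Or.inr (huniq _ (orderOf_eq_prime ?_ h))
            have := congrArg Subtype.val (pow_card_eq_one' (x := (⟨_, hker⟩ : Z)))
            rw [hZ2] at this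
            simpa using this
          have : x⁻¹ * g ∈ M := by
            rcases hzc with h | h <;> rw [h]
            · exact one_mem _
            · exact hzM
          simpa using mul_mem hx this
        rw [htop, index_top] at hM
        omega
      · exact EqualOrder.alt_four_index _ h2
    · haveI : Group.IsSolvable Z :=
        Group.isSolvable_of_comm fun a b => Subtype.ext (mem_center_iff.1 b.2 a)
      haveI : Group.IsSolvable (G ⧸ Z) := by
        haveI : Group.IsSolvable (alternatingGroup (Fin 4)) :=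
          Char.isSolvable_of_card_pq 2 3 Nat.prime_two Nat.prime_three _ _ rfl ⟨2, 1, by rw [hA4]; norm_num⟩
        exact Group.isSolvable_of_surjective (f := i.symm.toMonoidHom) i.symm.surjective
      exact solvable_of_ker_le_range Z.subtype π (by rw [QuotientGroup.ker_mk', range_subtype])
  haveI : Fact (Nat.Prime 3) := ⟨Nat.prime_three⟩
  have out : ∀ (p : ℕ) [Fact p.Prime], (p % 8 = 3 ∨ p % 8 = 5) →
      (Nonempty (G ≃* Matrix.SpecialLinearGroup (Fin 2) (ZMod p)) ∨
        Nonempty (G ≃* Matrix.SpecialLinearGroup (Fin 2) (GaloisField p 3))) → ListP G := fun p _ h8 h =>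
    Or.inr (Or.inr (Or.inr (Or.inr (Or.inr (Or.inr (Or.inr ⟨p, inferInstance, h8, Or.inr (Or.inr h)⟩))))))
  rcases elementary (fun p hp => by haveI := Fact.mk hp; exact (hC p hp).quot Z) hO' hsq' S' le_rfl hS'4 with
    (⟨h, -⟩ | ⟨h, -⟩ | ⟨h, -⟩ | ⟨-, ⟨i⟩⟩) | ⟨-, hJ⟩ | ⟨⟨i⟩⟩ | ⟨⟨i⟩⟩ | ⟨p, hp, h8, ⟨⟨i⟩⟩ | ⟨⟨i⟩⟩⟩
  all_goals try omega
  · exact out 3 (Or.inl rfl) (Or.inl (halt i))
  · exfalso
    refine hX4 ?_
    haveI : Fintype (GaloisField 2 3) := Fintype.ofFinite _
    have h : Nat.card (Matrix.ProjectiveSpecialLinearGroup (Fin 2) (GaloisField 2 3)) = 504 := by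
      have h := Dickson.gcd_mul_card_psl (K := GaloisField 2 3)
      rw [GaloisField.card 2 3 (by norm_num)] at h
      norm_num at h ⊢
      omega
    rw [Nat.card_congr i.toEquiv, h]
    norm_num
  · exfalso
    refine hX4 ?_
    haveI : Fintype (GaloisField 2 5) := Fintype.ofFinite _
    haveI : IsSimpleGroup (Matrix.ProjectiveSpecialLinearGroup (Fin 2) (GaloisField 2 5)) :=
      Matrix.ProjectiveSpecialLinearGroup.rank_two_simple (by rw [GaloisField.card 2 5 (by norm_num)]; norm_num)
    have h : Nat.card (Matrix.ProjectiveSpecialLinearGroup (Fin 2) (GaloisField 2 5)) = 32736 := by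
      have h := Dickson.gcd_mul_card_psl (K := GaloisField 2 5)
      rw [GaloisField.card 2 5 (by norm_num)] at h
      norm_num at h ⊢
      omega
    have hinj : Function.Injective
        (MulAut.conj : Matrix.ProjectiveSpecialLinearGroup (Fin 2) (GaloisField 2 5) →* MulAut _) := by
      rcases (MonoidHom.normal_ker (MulAut.conj : Matrix.ProjectiveSpecialLinearGroup (Fin 2) (GaloisField 2 5) →*
        MulAut _)).eq_bot_or_eq_top with e | e
      · exact (MonoidHom.ker_eq_bot_iff _).1 e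
      · exfalso
        haveI : IsMulCommutative (Matrix.ProjectiveSpecialLinearGroup (Fin 2) (GaloisField 2 5)) := ⟨⟨fun a b => by
          have h1 := DFunLike.congr_fun (MonoidHom.mem_ker.1 (e ▸ mem_top a)) b
          simp only [MulAut.conj_apply, MulAut.one_apply] at h1
          exact mul_inv_eq_iff_eq_mul.1 h1⟩⟩
        letI : CommGroup (Matrix.ProjectiveSpecialLinearGroup (Fin 2) (GaloisField 2 5)) :=
          open scoped IsMulCommutative in inferInstance
        have hpr := IsSimpleGroup.prime_card (α := Matrix.ProjectiveSpecialLinearGroup (Fin 2) (GaloisField 2 5))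
        rw [h] at hpr
        norm_num at hpr
    haveI : Finite (MulAut (Matrix.ProjectiveSpecialLinearGroup (Fin 2) (GaloisField 2 5))) :=
      Finite.of_equiv _ i.toEquiv
    rw [Nat.card_congr i.toEquiv]
    exact (by rw [h]; norm_num : 8 ∣ Nat.card (Matrix.ProjectiveSpecialLinearGroup (Fin 2) (GaloisField 2 5))).trans
      (Subgroup.card_dvd_of_injective _ hinj)
  · haveI := hp
    rcases eq_or_ne p 3 with rfl | h3
    · obtain ⟨j⟩ := RankOneP.psl_three_equiv
      exact out 3 (Or.inl rfl) (Or.inl (halt (i.trans j)))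
    · exact out p h8 (Or.inl (hlin (by rwa [ZMod.card]) (by rw [ZMod.card]; omega) i))
  · haveI := hp
    haveI : Fintype (GaloisField p 3) := Fintype.ofFinite _
    have hq : Fintype.card (GaloisField p 3) = p ^ 3 := by
      rw [← Nat.card_eq_fintype_card, GaloisField.card p 3 (by norm_num)]
    refine out p h8 (Or.inr (hlin ?_ ?_ i))
    · rw [hq, pow_three_mod h8]; exact h8
    · rw [hq]
      exact le_trans (by norm_num) (Nat.pow_le_pow_left (show 3 ≤ p by omega) 3)

/-- The classification for trivial odd core. -/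
theorem main (hC : ∀ p : ℕ, p.Prime → PConj p G) (hO : Cfsg.oddCore G = ⊥) : ListP G := by
  classical
  haveI : Fact (Nat.Prime 2) := ⟨Nat.prime_two⟩
  obtain ⟨S⟩ : Nonempty (Sylow 2 G) := inferInstance
  have hcyc : IsCyclic (S : Subgroup G) → ListP G := fun hS => by
    refine Or.inl ?_
    suffices htop : (S : Subgroup G) = ⊤ by
      haveI := hS
      let eS : ↥(S : Subgroup G) ≃* G := (MulEquiv.subgroupCongr htop).trans Subgroup.topEquiv
      exact ⟨eS.isCyclic.1 hS, S.2.of_equiv eS⟩
    by_cases hev : 2 ∣ Nat.card G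
    · have hmin : (Nat.card G).minFac = 2 := (Nat.minFac_eq_two_iff _).2 hev
      have hle := IsCyclic.normalizer_le_centralizer hmin hS
      have hK := MonoidHom.ker_transferSylow_isComplement' S hle
      have hker : (MonoidHom.transferSylow S hle).ker = ⊥ := le_bot_iff.1 (hO ▸ SEBrick.le_oddCore inferInstance (by
        rw [Nat.odd_iff]
        have := MonoidHom.not_dvd_card_ker_transferSylow S hle
        omega))
      rw [hker] at hK
      exact isComplement'_bot_left.1 hK
    · have h1 : (⊤ : Subgroup G) ≤ Cfsg.oddCore G := SEBrick.le_oddCore inferInstance (by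
        rw [card_top, Nat.odd_iff]; omega)
      rw [hO, top_le_iff] at h1
      haveI : Subsingleton (Subgroup G) := subsingleton_of_bot_eq_top h1
      exact Subsingleton.elim _ _
  rcases shape (hC 2 Nat.prime_two) S with hE | hS | ⟨-, ⟨f⟩⟩
  · have hsq : EqualOrder.SqTwo G := fun g hg => by rw [← pow_two]; exact hE g hg
    obtain ⟨e, he⟩ := S.2.exists_card_eq
    rcases lt_or_ge e 2 with h | h
    · refine hcyc (isCyclic_of_card_dvd_prime (p := 2) ?_)
      rw [he]
      exact (pow_dvd_pow 2 (by omega : e ≤ 1)).trans (by rw [pow_one])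
    rcases elementary hC hO hsq S h he with
      (⟨-, i⟩ | ⟨-, i⟩ | ⟨-, i⟩ | ⟨-, ⟨i⟩⟩) | hJ | i | i | ⟨p, hp, h8, i | i⟩
    · exact Or.inr (Or.inl i)
    · exact Or.inr (Or.inr (Or.inl i))
    · exact Or.inr (Or.inr (Or.inr (Or.inl i)))
    · haveI : Fact (Nat.Prime 3) := ⟨Nat.prime_three⟩
      obtain ⟨j⟩ := RankOneP.psl_three_equiv
      exact Or.inr (Or.inr (Or.inr (Or.inr (Or.inr (Or.inr (Or.inr ⟨3, inferInstance, Or.inl rfl,
        Or.inl ⟨i.trans j.symm⟩⟩))))))
    · exact Or.inr (Or.inr (Or.inr (Or.inr (Or.inl hJ))))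
    · exact Or.inr (Or.inr (Or.inr (Or.inr (Or.inr (Or.inl i)))))
    · exact Or.inr (Or.inr (Or.inr (Or.inr (Or.inr (Or.inr (Or.inl i))))))
    · exact Or.inr (Or.inr (Or.inr (Or.inr (Or.inr (Or.inr (Or.inr ⟨p, hp, h8, Or.inl i⟩))))))
    · exact Or.inr (Or.inr (Or.inr (Or.inr (Or.inr (Or.inr (Or.inr ⟨p, hp, h8, Or.inr (Or.inl i)⟩))))))
  · exact hcyc hS
  · exact quaternion_case hC hO S f

end Cfsg.Agent.EqualPOrder
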