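import Cfsg.Agent.Lib.EqualPOrder.Shape
import Cfsg.Agent.Lib.EqualOrder.Psl
import Cfsg.Agent.Lib.AbelianTwo.Cover

/-!
The almost simple groups with socle `PSL₂(q)` in which `p`-subgroups of equal order are conjugate, the Sylow
2-subgroups being elementary abelian: `PSL₂(8)`, `Aut(PSL₂(32))` and `PSL₂(p)`, `PSL₂(p³)` for `p ≡ ±3 (mod 8)`.
-/

set_option autoImplicit false
set_option linter.style.haveILetI false

namespace Cfsg.Agent.EqualPOrder

open Subgroup Cfsg.Agent.AutPSL

/-- The conclusions with a simple socle `PSL₂(q)`. -/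
def LinearP (G : Type*) [Group G] : Prop :=
  Nonempty (G ≃* Matrix.ProjectiveSpecialLinearGroup (Fin 2) (GaloisField 2 3)) ∨
    Nonempty (G ≃* MulAut (Matrix.ProjectiveSpecialLinearGroup (Fin 2) (GaloisField 2 5))) ∨
    ∃ (p : ℕ) (_ : Fact p.Prime), (p % 8 = 3 ∨ p % 8 = 5) ∧
      (Nonempty (G ≃* Matrix.ProjectiveSpecialLinearGroup (Fin 2) (ZMod p)) ∨
       Nonempty (G ≃* Matrix.ProjectiveSpecialLinearGroup (Fin 2) (GaloisField p 3)))

variable {G : Type*} [Group G] [Finite G]

/-- The pairs generating a subgroup of order `p ^ 2` are few when all these subgroups are conjugate under `A`. -/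
theorem pairs_le {p : ℕ} [Fact p.Prime] (hC : PConj p G) {U : Subgroup G} {f : ℕ} (hf : 2 ≤ f)
    (hU : Nat.card U = p ^ f) (hcm : ∀ a ∈ U, ∀ b ∈ U, a * b = b * a) (hex : ∀ a ∈ U, a ^ p = 1)
    (hti : ∀ g : G, ∀ z ∈ U, z ≠ 1 → g * z * g⁻¹ ∈ U → g ∈ normalizer (U : Set G)) :
    (p ^ f - 1) * (p ^ f - p) * p ^ f ≤ Nat.card (normalizer (U : Set G)) * p ^ 4 := by
  classical
  have hp := (Fact.out : p.Prime)
  have ho : ∀ x ∈ U, x ≠ 1 → orderOf x = p := fun x hx h1 => orderOf_eq_prime (hex x hx) h1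
  have hnorm : ∀ x ∈ U, ∀ y ∈ U, x ∈ normalizer ((zpowers y : Subgroup G) : Set G) := fun x hx y hy =>
    centralizer_le_normalizer _ (mem_centralizer_iff.2 fun u hu => hcm u (zpowers_le.2 hy hu) x hx)
  have hspan : ∀ x ∈ U, ∀ y ∈ U, y ≠ 1 → x ∉ zpowers y → Nat.card ↥(zpowers x ⊔ zpowers y) = p ^ 2 :=
    fun x hx y hy hy1 hxy => by
      rw [card_sup_zpowers (ho x hx (fun e => hxy (e ▸ one_mem _))) (hnorm x hx y hy) hxy, Nat.card_zpowers,
        ho y hy hy1, pow_two]
  have hlt : p < Nat.card U := by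
    rw [hU]; exact lt_of_lt_of_le (by simpa using Nat.pow_lt_pow_right hp.one_lt (by norm_num : 1 < 2))
      (Nat.pow_le_pow_right hp.pos hf)
  obtain ⟨v₀, hv₀, hv₁⟩ : ∃ v₀ ∈ U, v₀ ≠ 1 := U.bot_or_exists_ne_one.resolve_left fun e => by
    rw [e, card_bot] at hlt; have := hp.one_lt; omega
  obtain ⟨u₀, hu₀, hu₁⟩ := SetLike.not_le_iff_exists.1 (fun hle : U ≤ zpowers v₀ => by
    have := Nat.le_of_dvd Nat.card_pos (card_dvd_of_le hle)
    rw [Nat.card_zpowers, ho v₀ hv₀ hv₁] at this; omega)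
  set H := zpowers u₀ ⊔ zpowers v₀
  have hHU : H ≤ U := sup_le (zpowers_le.2 hu₀) (zpowers_le.2 hv₀)
  have hH : Nat.card H = p ^ 2 := hspan u₀ hu₀ v₀ hv₀ hv₁ hu₁
  have hH' : IsPGroup p H := IsPGroup.of_card hH
  let ψ : ↥(normalizer (U : Set G)) →* MulAut U := U.normalizerMonoidHom
  let T := Σ v : {v : U // (v : G) ≠ 1}, {u : U // (u : G) ∉ zpowers ((v : U) : G)}
  let Φ : ψ.range × (H × H) → U × U := fun w =>
    (w.1.1 ⟨w.2.1, hHU w.2.1.2⟩, w.1.1 ⟨w.2.2, hHU w.2.2.2⟩)
  have key : ∀ t : T, ∃ w, Φ w = (t.2.1, t.1.1) := by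
    rintro ⟨⟨v, hv⟩, ⟨u, hu⟩⟩
    have hK := hspan u u.2 v v.2 hv hu
    obtain ⟨g, hg⟩ := hC H _ hH' (IsPGroup.of_card hK) (hH.trans hK.symm)
    obtain ⟨a, ha, hav⟩ := Subgroup.mem_map.1 (hg.le (mem_sup_right (mem_zpowers (v : G))))
    obtain ⟨b, hb, hbu⟩ := Subgroup.mem_map.1 (hg.le (mem_sup_left (mem_zpowers (u : G))))
    have ha1 : a ≠ 1 := fun e => hv (by rw [← hav, e, map_one])
    have hgn : g ∈ normalizer (U : Set G) := hti g a (hHU ha) ha1 (by
      have : MulAut.conj g a ∈ U := hav.symm ▸ v.2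
      simpa using this)
    exact ⟨(⟨ψ ⟨g, hgn⟩, ⟨_, rfl⟩⟩, ⟨b, hb⟩, ⟨a, ha⟩), Prod.ext (Subtype.ext hbu) (Subtype.ext hav)⟩
  choose w hw using key
  have hinj : Function.Injective w := fun s t h => by
    have e := (hw s).symm.trans ((congrArg Φ h).trans (hw t))
    obtain ⟨⟨v, hv⟩, ⟨u, hu⟩⟩ := s
    obtain ⟨⟨v', hv'⟩, ⟨u', hu'⟩⟩ := t
    simp only [Prod.mk.injEq] at e
    obtain ⟨rfl, rfl⟩ := e
    rfl
  haveI : Fintype U := Fintype.ofFinite U
  have hcT : Nat.card T = (p ^ f - 1) * (p ^ f - p) := by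
    rw [Nat.card_sigma]
    have h1 : ∀ v : {v : U // (v : G) ≠ 1}, Nat.card {u : U // (u : G) ∉ zpowers ((v : U) : G)} = p ^ f - p := by
      intro v
      have e : Nat.card {u : U // (u : G) ∈ zpowers ((v : U) : G)} = p := by
        have h : Nat.card ((zpowers ((v : U) : G)).subgroupOf U) = Nat.card (zpowers ((v : U) : G)) :=
          Nat.card_congr (subgroupOfEquivOfLe (zpowers_le.2 v.1.2)).toEquiv
        rw [Nat.card_zpowers, ho _ v.1.2 v.2] at h
        exact h
      rw [Nat.card_eq_fintype_card] at hU e ⊢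
      rw [Fintype.card_subtype_compl, hU, e]
    rw [Finset.sum_congr rfl fun v _ => h1 v, Finset.sum_const, smul_eq_mul, Finset.card_univ,
      Fintype.card_subtype_compl, ← Nat.card_eq_fintype_card, hU]
    congr 2
    refine Fintype.card_eq_one_iff.2 ⟨⟨1, rfl⟩, fun y => Subtype.ext (Subtype.ext y.2)⟩
  have h2 := Nat.card_le_card_of_injective w hinj
  rw [hcT, Nat.card_prod, Nat.card_prod, hH] at h2
  have h3 : Nat.card ψ.range * p ^ f ≤ Nat.card (normalizer (U : Set G)) := by
    rw [← card_mul_index ψ.ker, index_ker, mul_comm _ (Nat.card ψ.range)]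
    refine Nat.mul_le_mul_left _ ?_
    rw [← hU]
    refine Nat.card_le_card_of_injective (fun x => ⟨⟨x, le_normalizer x.2⟩, MonoidHom.mem_ker.2
      (MulEquiv.ext fun y => Subtype.ext ?_)⟩) fun x y h => ?_
    · show (x : G) * y * (x : G)⁻¹ = y
      rw [hcm x x.2 y y.2, mul_inv_cancel_right]
    · exact Subtype.ext (congrArg (fun z => ((z.1 : G))) h :)
  calc (p ^ f - 1) * (p ^ f - p) * p ^ f ≤ Nat.card ψ.range * (p ^ 2 * p ^ 2) * p ^ f := Nat.mul_le_mul_right _ h2
    _ = Nat.card ψ.range * p ^ f * p ^ 4 := by ring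
    _ ≤ _ := Nat.mul_le_mul_right _ h3

theorem three_pow_ge (j : ℕ) : 2 * j + 1 ≤ 3 ^ j := by
  induction j with
  | zero => simp
  | succ j ih => rw [pow_succ]; omega

/-- The degree of the field is small. -/
theorem degree_le {p f : ℕ} (hp : 3 ≤ p) (hf : Odd f) (h : 2 * (p ^ f - p) ≤ f * p ^ 4) : f ≤ 3 := by
  by_contra hlt
  obtain ⟨j, hj⟩ : ∃ j, f = j + 4 := ⟨f - 4, by omega⟩
  have hj1 : 1 ≤ j := by rw [Nat.odd_iff] at hf; omega
  have h1 : 2 * j + 1 ≤ p ^ j := (three_pow_ge j).trans (Nat.pow_le_pow_left hp j)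
  have h2 : (f + 1) * p ^ 4 ≤ 2 * p ^ f := by
    rw [hj, pow_add, ← mul_assoc]
    exact Nat.mul_le_mul_right _ (by omega)
  have h3 : 2 * p < p ^ 4 := by
    have h9 : 3 * p ≤ p * p := Nat.mul_le_mul_right _ hp
    have : p ^ 4 = p * p * (p * p) := by ring
    rw [this]
    exact lt_of_lt_of_le (by omega : 2 * p < p * p) (Nat.le_mul_of_pos_right _ (by omega))
  rw [add_mul, one_mul] at h2
  omega

/-- The number of automorphisms of a finite field. -/
theorem card_ringAut {F : Type*} [Field F] [Fintype F] {p f : ℕ} [Fact p.Prime] (hf : f ≠ 0)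
    (hF : Fintype.card F = p ^ f) : Nat.card (F ≃+* F) = f := by
  haveI : Fintype (GaloisField p f) := Fintype.ofFinite _
  let e : F ≃+* GaloisField p f := FiniteField.ringEquivOfCardEq (by
    rw [hF, ← Nat.card_eq_fintype_card, GaloisField.card p f hf])
  let e' : (GaloisField p f ≃ₐ[ZMod p] GaloisField p f) ≃ (F ≃+* F) :=
    { toFun := fun s => (e.trans s.toRingEquiv).trans e.symm
      invFun := fun s => AlgEquiv.ofRingEquiv (f := (e.symm.trans s).trans e) fun x =>
        RingHom.congr_fun (Subsingleton.elim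
          (((e.symm.trans s).trans e).toRingHom.comp (algebraMap (ZMod p) (GaloisField p f)))
          (algebraMap (ZMod p) (GaloisField p f))) x
      left_inv := fun s => AlgEquiv.ext fun x => by
        show e (e.symm (s (e (e.symm x)))) = s x
        simp
      right_inv := fun s => RingEquiv.ext fun x => by
        show e.symm (e (s (e.symm (e x)))) = s x
        simp }
  rw [← Nat.card_congr e', IsGalois.card_aut_eq_finrank, GaloisField.finrank p hf]

/-- A field automorphism of order three is no image of an element of the socle. -/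
theorem semi_ne_inner {F : Type} [Field F] [Fintype F] {σ : F ≃+* F} (hσ : σ ≠ 1)
    (s : Matrix.ProjectiveSpecialLinearGroup (Fin 2) F) : semi (1 : GL (Fin 2) F) σ ≠ MulAut.conj s := by
  intro hcj
  obtain ⟨s, rfl⟩ := QuotientGroup.mk_surjective s
  obtain ⟨d, hd⟩ : ∃ d : GL (Fin 2) F, MulAut.conj (QuotientGroup.mk s :
      Matrix.ProjectiveSpecialLinearGroup (Fin 2) F) = semi d 1 := by
    refine ⟨Matrix.SpecialLinearGroup.toGL s, MulEquiv.ext fun y => ?_⟩
    induction y using QuotientGroup.induction_on with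
    | _ y =>
      rw [MulAut.conj_apply, semi_mk, ← QuotientGroup.mk_inv, ← QuotientGroup.mk_mul, ← QuotientGroup.mk_mul]
      refine congrArg QuotientGroup.mk (Subtype.ext ?_)
      simp [slSemi_coe, Matrix.inv_def]
  have h2 : (semi d 1 : MulAut (Matrix.ProjectiveSpecialLinearGroup (Fin 2) F)) * semi d⁻¹ 1 = 1 := by
    rw [semi_mul', mapGL_one, mul_inv_cancel, mul_one, semi_one]
  rw [← hd, ← hcj, semi_mul', mul_one] at h2
  exact hσ ((semi_eq_one_iff le_rfl).1 h2).1

/-- The socle `PSL₂(q)`. -/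
theorem psl_case (hC : ∀ p : ℕ, p.Prime → PConj p G) (hsq : EqualOrder.SqTwo G) (N : Subgroup G) [hN : N.Normal]
    (hcN : centralizer (N : Set G) = ⊥) {F : Type} [Field F] [Fintype F] (hF : AbelInv.GoodField F)
    (eN : N ≃* Matrix.ProjectiveSpecialLinearGroup (Fin 2) F) : LinearP G := by
  unfold LinearP
  classical
  haveI : Fact (Nat.Prime 2) := ⟨Nat.prime_two⟩
  haveI : Fact (Nat.Prime 3) := ⟨Nat.prime_three⟩
  have h4q : 4 ≤ Fintype.card F := by
    rcases hF with ⟨-, h⟩ | ⟨n, hn, h⟩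
    · omega
    · rw [h]; exact (show 4 = 2 ^ 2 from rfl) ▸ Nat.pow_le_pow_right two_pos hn
  have hq : Nat.card F = Fintype.card F := Nat.card_eq_fintype_card
  have hns : ¬ Group.IsSolvable N := fun h => by
    haveI := h
    exact Dickson.not_isSolvable_psl (F := F) (by rw [hq]; exact h4q)
      (Group.isSolvable_of_surjective (f := eN.toMonoidHom) eN.surjective)
  -- every element of prime order dividing the socle's lies there, for the primes two and three
  have hall : ∀ r : ℕ, r.Prime → r ∣ Nat.card N → ∀ t : G, orderOf t = r → t ∈ N := by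
    intro r hr hd t ht
    haveI := Fact.mk hr
    obtain ⟨⟨i, hi⟩, hi2⟩ := exists_prime_orderOf_dvd_card' r hd
    rw [orderOf_mk] at hi2
    have hc : ∀ x : G, orderOf x = r → IsPGroup r (zpowers x) := fun x hx =>
      IsPGroup.of_card (n := 1) (by rw [Nat.card_zpowers, hx, pow_one])
    obtain ⟨g, hg⟩ := hC r hr (zpowers i) (zpowers t) (hc i hi2) (hc t ht)
      (by rw [Nat.card_zpowers, Nat.card_zpowers, hi2, ht])
    obtain ⟨y, hy, hyt⟩ := Subgroup.mem_map.1 (hg ▸ mem_zpowers t)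
    rw [← hyt]
    exact hN.conj_mem y (zpowers_le.2 hi hy) g
  have h2N : 2 ∣ Nat.card N := by
    rw [← even_iff_two_dvd, ← Nat.not_odd_iff_even]
    exact fun h => hns (S0205.result h)
  obtain ⟨S⟩ : Nonempty (Sylow 2 G) := inferInstance
  have hSN : (S : Subgroup G) ≤ N := fun s hs => by
    rcases eq_or_ne s 1 with rfl | h1
    · exact one_mem _
    · exact hall 2 Nat.prime_two h2N s
        (orderOf_eq_prime (by rw [pow_two]; exact EqualOrder.sylow_sq hsq S s hs) h1)
  have hidx : Odd N.index := by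
    rw [Nat.odd_iff]
    by_contra h
    exact S.not_dvd_index ((show 2 ∣ N.index by omega).trans (Subgroup.index_dvd_of_le hSN))
  have hGN := Subgroup.card_mul_index N
  have hNP := Nat.card_congr eN.toEquiv
  -- the faithful action on the socle
  let φ : G →* MulAut (Matrix.ProjectiveSpecialLinearGroup (Fin 2) F) :=
    (MulAut.congr eN).toMonoidHom.comp MulAut.conjNormal
  have hφv : ∀ (g : G) (x : N), φ g (eN x) = eN (MulAut.conjNormal g x) := fun g x => by
    simp [φ, MulAut.congr]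
  have hinj : Function.Injective φ := by
    refine (injective_iff_map_eq_one φ).2 fun g hg => ?_
    rw [← Subgroup.mem_bot, ← hcN, Subgroup.mem_centralizer_iff]
    intro k hk
    have := hφv g ⟨k, hk⟩
    rw [hg, MulAut.one_apply, EmbeddingLike.apply_eq_iff_eq] at this
    have h' := congrArg Subtype.val this
    rw [MulAut.conjNormal_apply] at h'
    exact eq_mul_inv_iff_mul_eq.1 h'
  obtain ⟨p, hp⟩ := CharP.exists F
  obtain ⟨f, hpp, hqf⟩ := FiniteField.card F p
  haveI := Fact.mk hpp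
  have hAut := S0813.result p f f.pos hqf 2 le_rfl (fun _ => hqf ▸ h4q)
  rw [if_pos rfl, one_mul, Dickson.card_pgl2] at hAut
  haveI : Finite (MulAut (Matrix.ProjectiveSpecialLinearGroup (Fin 2) F)) := inferInstance
  have hdvd := Subgroup.card_dvd_of_injective φ hinj
  rw [hAut, ← hGN, hNP] at hdvd
  have hpsl := Dickson.gcd_mul_card_psl (K := F)
  -- no field automorphism of order three is induced when three divides the socle's order
  have hfield : 3 ∣ Nat.card N → ∀ σ : F ≃+* F, orderOf σ = 3 → semi (1 : GL (Fin 2) F) σ ∉ φ.range := by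
    rintro h3 σ hσ ⟨g, hg⟩
    have hσ1 : σ ≠ 1 := fun h => by rw [h, orderOf_one] at hσ; omega
    have hmul : ∀ a b : F ≃+* F, (semi (1 : GL (Fin 2) F) a : MulAut _) * semi 1 b = semi 1 (a * b) := fun a b => by
      rw [semi_mul', map_one, mul_one]
    have hb3 : (semi (1 : GL (Fin 2) F) σ : MulAut (Matrix.ProjectiveSpecialLinearGroup (Fin 2) F)) ^ 3 = 1 := by
      rw [pow_succ, pow_two, hmul, hmul, show σ * σ * σ = σ ^ orderOf σ by rw [hσ, pow_succ, pow_two],
        pow_orderOf_eq_one, semi_one]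
    have hg3 : orderOf g = 3 := by
      refine orderOf_eq_prime (hinj (by rw [map_pow, hg, hb3, map_one])) fun h1 => hσ1 ?_
      rw [h1, map_one] at hg
      exact ((semi_eq_one_iff le_rfl).1 hg.symm).1
    have hgN := hall 3 Nat.prime_three h3 g hg3
    refine semi_ne_inner hσ1 (eN ⟨g, hgN⟩) ?_
    rw [← hg]
    refine MulEquiv.ext fun y => ?_
    obtain ⟨y, rfl⟩ := eN.surjective y
    rw [hφv, MulAut.conj_apply, ← map_inv, ← map_mul, ← map_mul]
    exact congrArg eN (Subtype.ext (MulAut.conjNormal_apply _ _))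
  have hexσ : (f : ℕ) = 3 → ∃ σ : F ≃+* F, orderOf σ = 3 := fun h => by
    haveI : Finite (F ≃+* F) := Finite.of_injective (fun σ => (σ : F → F)) DFunLike.coe_injective
    refine exists_prime_orderOf_dvd_card' 3 (dvd_of_eq (Eq.symm ?_))
    rw [card_ringAut (p := p) (f := f) f.ne_zero hqf, h]
  rcases hF with ⟨h8, h5⟩ | ⟨n, hn, hqn⟩
  · -- odd characteristic
    have hgcd : Nat.gcd 2 (Nat.card F - 1) = 2 := Nat.gcd_eq_left (by rw [hq]; omega)
    rw [hgcd] at hpsl
    have hm : N.index ∣ (f : ℕ) := by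
      have h1 : N.index ∣ (f : ℕ) * 2 := by
        refine Nat.dvd_of_mul_dvd_mul_left (Nat.card_pos (α := N)) ?_
        rw [hNP]
        refine hdvd.trans (dvd_of_eq ?_)
        rw [← hpsl]; ring
      exact ((Nat.coprime_two_right.2 hidx)).dvd_of_dvd_mul_right h1
    have hp8 : Odd (f : ℕ) ∧ (p % 8 = 3 ∨ p % 8 = 5) := by
      have hpodd : Odd p := by
        rcases hpp.eq_two_or_odd' with h2 | h2
        · exfalso
          rw [hqf, h2] at h8 h5
          rcases Nat.lt_or_ge (f : ℕ) 3 with hlt | hge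
          · have := f.pos
            interval_cases hf : (f : ℕ) <;> norm_num at h8
          · obtain ⟨k, hk⟩ := Nat.exists_eq_add_of_le hge
            rw [hk, pow_add] at h8
            omega
        · exact h2
      have hsqr : p ^ 2 % 8 = 1 := by
        rw [Nat.pow_mod]
        have := Nat.odd_iff.1 hpodd
        have : p % 8 = 1 ∨ p % 8 = 3 ∨ p % 8 = 5 ∨ p % 8 = 7 := by omega
        rcases this with h | h | h | h <;> rw [h]
      rcases Nat.even_or_odd' (f : ℕ) with ⟨k, hk | hk⟩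
      · rw [hqf, hk, pow_mul, Nat.pow_mod, hsqr, one_pow] at h8
        omega
      · refine ⟨hk ▸ odd_two_mul_add_one k, ?_⟩
        rw [hqf, hk, pow_succ, pow_mul, Nat.mul_mod, Nat.pow_mod, hsqr, one_pow] at h8
        omega
    obtain ⟨hfodd, hp8⟩ := hp8
    have hp3 : 3 ≤ p := by omega
    by_cases hf1 : (f : ℕ) = 1
    · have hN1 : N = ⊤ := index_eq_one.1 (Nat.dvd_one.1 (hf1 ▸ hm))
      refine Or.inr (Or.inr ⟨p, ⟨hpp⟩, hp8, Or.inl ⟨?_⟩⟩)
      exact ((topEquiv.symm.trans (MulEquiv.subgroupCongr hN1.symm)).trans eN).trans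
        (EPPO.pslRingEquiv (FiniteField.ringEquivOfCardEq (by rw [ZMod.card, hqf, hf1, pow_one])))
    have hf3' : 3 ≤ (f : ℕ) := by rw [Nat.odd_iff] at hfodd; omega
    have h11 : 11 ≤ Fintype.card F := by
      rw [hqf]
      exact le_trans (by norm_num : 11 ≤ 3 ^ 3) ((Nat.pow_le_pow_left hp3 3).trans (Nat.pow_le_pow_right hpp.pos hf3'))
    obtain ⟨D⟩ := JanThom.exists_lData h8 h11
    set j : Matrix.ProjectiveSpecialLinearGroup (Fin 2) F →* G := N.subtype.comp eN.symm.toMonoidHom with hj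
    have hji : Function.Injective j := N.subtype_injective.comp eN.symm.injective
    set U := D.U.map j with hU
    have habs : (Fintype.card F : ℕ) = p ^ (f : ℕ) := hqf
    have hcU : Nat.card D.U = p ^ (f : ℕ) := by rw [D.card_U, ← habs]; split_ifs <;> simp
    obtain rfl : D.p = p := (Nat.prime_dvd_prime_iff_eq D.prime_p hpp).1 (D.prime_p.dvd_of_dvd_pow
      (hcU ▸ D.card_U.trans D.abs_Q ▸ dvd_pow_self D.p D.n_odd.pos.ne'))
    have hcUj : Nat.card U = D.p ^ (f : ℕ) := by rw [hU, card_map_of_injective hji, hcU]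
    have hjN : ∀ x, j x ∈ N := fun x => (eN.symm x).2
    have hbound := pairs_le (hC D.p hpp) (U := U) (f := f) (by omega) hcUj
      (by
        rintro _ ⟨a, ha, rfl⟩ _ ⟨b, hb, rfl⟩
        rw [← map_mul, ← map_mul, D.U_comm a ha b hb])
      (by
        rintro _ ⟨a, ha, rfl⟩
        rw [← map_pow, D.U_exp a ha, map_one])
      (by
        rintro g _ ⟨a, ha, rfl⟩ ha1 ⟨c, hc, hce⟩
        have hc1 : c ≠ 1 := fun e => ha1 (by
          rw [e, map_one] at hce
          exact conj_eq_one_iff.1 hce.symm)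
        refine SEBrick.mem_normalizer_of fun w hw => ?_
        obtain ⟨b, hb, rfl⟩ := hw
        have hwN : g * j b * g⁻¹ ∈ N := hN.conj_mem _ (hjN b) g
        obtain ⟨y, hy⟩ : ∃ y, j y = g * j b * g⁻¹ := ⟨eN ⟨_, hwN⟩, by simp [hj]⟩
        rw [← hy]
        refine mem_map_of_mem j (D.cent_u c hc hc1 y (hji ?_))
        rw [map_mul, map_mul, hy, hce, show g * j b * g⁻¹ * (g * j a * g⁻¹) = g * (j b * j a) * g⁻¹ by group,
          ← map_mul, D.U_comm b hb a ha, map_mul]
        group)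
    have hNU : Nat.card (normalizer (U : Set G)) ≤ (f : ℕ) * Nat.card (normalizer (D.U : Set (Matrix.ProjectiveSpecialLinearGroup (Fin 2) F))) := by
      set NU := normalizer (U : Set G)
      have e1 : Nat.card (N.subgroupOf NU) ≤ Nat.card (normalizer (D.U : Set (Matrix.ProjectiveSpecialLinearGroup (Fin 2) F))) := by
        refine Nat.card_le_card_of_injective (fun x => ⟨eN ⟨x.1.1, x.2⟩, ?_⟩) fun x y h => ?_
        · refine SEBrick.mem_normalizer_of fun a ha => ?_
          obtain ⟨b, hb, hbe⟩ := (mem_normalizer_iff.1 x.1.2 (j a)).1 (mem_map_of_mem j ha)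
          have : b = eN ⟨x.1.1, x.2⟩ * a * (eN ⟨x.1.1, x.2⟩)⁻¹ := hji (by rw [hbe]; simp [hj])
          rwa [← this]
        · exact Subtype.ext (Subtype.ext (congrArg Subtype.val (eN.injective (congrArg Subtype.val h :)) :))
      rw [← card_mul_index (N.subgroupOf NU), mul_comm]
      exact Nat.mul_le_mul (Nat.le_of_dvd f.pos ((relIndex_dvd_index_of_normal N NU).trans hm)) e1
    have hf3 : (f : ℕ) = 3 := by
      have h1 := D.card_NU
      rw [← D.card_U, hcU] at h1
      have h2 : 2 * (D.p ^ (f : ℕ) - D.p) * (D.p ^ (f : ℕ) * (D.p ^ (f : ℕ) - 1)) ≤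
          (f : ℕ) * D.p ^ 4 * (D.p ^ (f : ℕ) * (D.p ^ (f : ℕ) - 1)) := by
        calc 2 * (D.p ^ (f : ℕ) - D.p) * (D.p ^ (f : ℕ) * (D.p ^ (f : ℕ) - 1))
            = 2 * ((D.p ^ (f : ℕ) - 1) * (D.p ^ (f : ℕ) - D.p) * D.p ^ (f : ℕ)) := by ring
          _ ≤ 2 * ((f : ℕ) * Nat.card (normalizer (D.U : Set (Matrix.ProjectiveSpecialLinearGroup (Fin 2) F))) * D.p ^ 4) :=
              Nat.mul_le_mul_left _ (hbound.trans (Nat.mul_le_mul_right _ hNU))
          _ = (f : ℕ) * D.p ^ 4 * (2 * Nat.card (normalizer (D.U : Set (Matrix.ProjectiveSpecialLinearGroup (Fin 2) F)))) := by ring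
          _ = _ := by rw [h1]
      have hpos : 0 < D.p ^ (f : ℕ) * (D.p ^ (f : ℕ) - 1) :=
        Nat.mul_pos (pow_pos hpp.pos _) (Nat.sub_pos_of_lt (Nat.one_lt_pow (by omega) hpp.one_lt))
      have := degree_le hp3 hfodd (Nat.le_of_mul_le_mul_right h2 hpos)
      omega
    rcases (Nat.dvd_prime Nat.prime_three).1 (hf3 ▸ hm) with h1 | h3
    · refine Or.inr (Or.inr ⟨D.p, ⟨hpp⟩, hp8, Or.inr ⟨?_⟩⟩)
      haveI : Fintype (GaloisField D.p 3) := Fintype.ofFinite _
      exact ((topEquiv.symm.trans (MulEquiv.subgroupCongr (index_eq_one.1 h1).symm)).trans eN).trans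
        (EPPO.pslRingEquiv (FiniteField.ringEquivOfCardEq (by
          rw [← Nat.card_eq_fintype_card (α := GaloisField D.p 3), GaloisField.card D.p 3 (by norm_num)]; exact hqf.trans (by rw [hf3]))))
    · exfalso
      obtain ⟨σ, hσ⟩ := hexσ hf3
      have h3N : 3 ∣ Nat.card N := by
        rw [hNP]
        refine (Nat.Coprime.dvd_of_dvd_mul_left (by norm_num : Nat.Coprime 3 2) ?_)
        rw [hpsl]
        have : 3 ∣ Nat.card F ∨ 3 ∣ Nat.card F ^ 2 - 1 := by
          rw [pow_two]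
          rcases (by omega : Nat.card F % 3 = 0 ∨ Nat.card F % 3 = 1 ∨ Nat.card F % 3 = 2) with h | h | h
          · exact Or.inl (Nat.dvd_of_mod_eq_zero h)
          all_goals
            refine Or.inr (Nat.dvd_of_mod_eq_zero ?_)
            have h' : Nat.card F * Nat.card F % 3 = 1 := by rw [Nat.mul_mod, h]
            omega
        rcases this with h | h
        · exact h.mul_right _
        · exact h.mul_left _
      refine hfield h3N σ hσ ?_
      have hr : φ.range.index = 2 := by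
        have h1 := card_mul_index φ.range
        rw [← Nat.card_congr (MonoidHom.ofInjective hinj).toEquiv, ← hGN, hAut, hf3, h3, hNP] at h1
        refine Nat.eq_of_mul_eq_mul_left (show 0 < Nat.card (Matrix.ProjectiveSpecialLinearGroup (Fin 2) F) * 3 from
          Nat.mul_pos Nat.card_pos (by norm_num)) ?_
        rw [h1, ← hpsl]; ring
      have h4 : (semi (1 : GL (Fin 2) F) σ : MulAut (Matrix.ProjectiveSpecialLinearGroup (Fin 2) F)) =
          (semi (1 : GL (Fin 2) F) (σ * σ)) ^ 2 := by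
        rw [pow_two, semi_mul', map_one, mul_one, show σ * σ * (σ * σ) = σ by
          rw [show σ * σ * (σ * σ) = σ ^ 3 * σ by rw [pow_succ, pow_two]; group, ← hσ, pow_orderOf_eq_one, one_mul]]
      rw [h4]
      exact Subgroup.sq_mem_of_index_two hr _
  -- even characteristic
  obtain rfl : p = 2 := (Nat.prime_dvd_prime_iff_eq hpp Nat.prime_two).1
    (hpp.dvd_of_dvd_pow (hqn ▸ hqf ▸ dvd_pow_self p f.ne_zero))
  obtain rfl : n = f := Nat.pow_right_injective le_rfl (hqn.symm.trans hqf)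
  have hgcd : Nat.gcd 2 (Nat.card F - 1) = 1 := by
    rw [hq, hqn, ← Nat.coprime_iff_gcd_eq_one, Nat.coprime_two_left]
    have : 2 ∣ 2 ^ (f : ℕ) := dvd_pow_self 2 f.ne_zero
    have : 0 < 2 ^ (f : ℕ) := Nat.two_pow_pos _
    rw [Nat.odd_iff]; omega
  rw [hgcd, one_mul] at hpsl
  have hNc : Nat.card N = Nat.card F * (Nat.card F ^ 2 - 1) := hNP.trans hpsl
  have hcS : Nat.card (S : Subgroup G) = 2 ^ (f : ℕ) := by
    rw [S.card_eq_multiplicity, ← hGN, hNc, hq, hqn,
      Nat.factorization_mul (Nat.mul_ne_zero (by positivity) (hqn ▸ hq ▸ hNc ▸ Nat.card_pos.ne' |>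
        fun h => (Nat.mul_ne_zero_iff.1 h).2)) hidx.pos.ne', Finsupp.add_apply,
      Nat.factorization_eq_zero_of_not_dvd (fun h => Nat.not_even_iff_odd.2 hidx (even_iff_two_dvd.2 h)), add_zero,
      Nat.factorization_mul (by positivity) (hqn ▸ hq ▸ hNc ▸ Nat.card_pos.ne' |>
        fun h => (Nat.mul_ne_zero_iff.1 h).2), Finsupp.add_apply, Nat.prime_two.factorization_pow,
      Finsupp.single_eq_same, Nat.factorization_eq_zero_of_not_dvd, add_zero]
    rw [← pow_mul]
    have : 2 ∣ 2 ^ ((f : ℕ) * 2) := dvd_pow_self 2 (by have := f.pos; omega)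
    have : 0 < 2 ^ ((f : ℕ) * 2) := Nat.two_pow_pos _
    omega
  rw [← hNP, hNc, mul_comm (Nat.card F * (Nat.card F ^ 2 - 1)) N.index] at hdvd
  have hidxf : N.index ∣ (f : ℕ) := Nat.dvd_of_mul_dvd_mul_right (hNc ▸ Nat.card_pos) hdvd
  let K := GaloisField 2 f
  haveI : Fintype K := Fintype.ofFinite K
  have hK : Fintype.card K = 2 ^ (f : ℕ) := by
    rw [← Nat.card_eq_fintype_card, GaloisField.card 2 f f.ne_zero]
  obtain ⟨-, hcases⟩ := EqualOrder.dvd_card_automiser_of hsq S (fun A B hA hB h =>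
    hC 2 Nat.prime_two A B (S.2.to_le hA) (S.2.to_le hB) h) hn hcS K hK
  have eK : F ≃+* K := FiniteField.ringEquivOfCardEq (by rw [hK, hqn])
  rcases hcases with ⟨h, -⟩ | ⟨h, -⟩ | ⟨h, h155⟩
  · rw [h] at hidxf
    have h1 : N.index = 1 := by
      rcases (Nat.dvd_prime Nat.prime_two).1 hidxf with h' | h'
      · exact h'
      · rw [h'] at hidx; exact absurd hidx (by decide)
    haveI : Fact (Nat.Prime 5) := ⟨by norm_num⟩
    obtain ⟨e5⟩ := AbelianTwo.psl_four_five (F := F) (Or.inl (by rw [hqn, h]; rfl))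
    exact Or.inr (Or.inr ⟨5, inferInstance, Or.inr rfl, Or.inl
      ⟨((topEquiv.symm.trans (MulEquiv.subgroupCongr (index_eq_one.1 h1).symm)).trans eN).trans e5⟩⟩)
  · have eK' : F ≃+* GaloisField 2 3 := by
      haveI : Fintype (GaloisField 2 3) := Fintype.ofFinite _
      exact FiniteField.ringEquivOfCardEq (by
        rw [← Nat.card_eq_fintype_card (α := GaloisField 2 3), GaloisField.card 2 3 (by norm_num), hqn, h])
    rw [h] at hidxf
    rcases (Nat.dvd_prime Nat.prime_three).1 hidxf with h1 | h3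
    · exact Or.inl ⟨((topEquiv.symm.trans (MulEquiv.subgroupCongr (index_eq_one.1 h1).symm)).trans eN).trans
        (EPPO.pslRingEquiv eK')⟩
    · exfalso
      have hbij : Function.Bijective φ := hinj.bijective_of_nat_card_le (by
        rw [hAut, ← hGN, h3, hNc, h, mul_comm])
      obtain ⟨σ, hσ⟩ := hexσ h
      exact hfield (by rw [hNc, hq, hqn, h]; norm_num) σ hσ (hbij.2 _)
  · have eK' : F ≃+* GaloisField 2 5 := by
      haveI : Fintype (GaloisField 2 5) := Fintype.ofFinite _
      exact FiniteField.ringEquivOfCardEq (by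
        rw [← Nat.card_eq_fintype_card (α := GaloisField 2 5), GaloisField.card 2 5 (by norm_num), hqn, h])
    rw [h] at hidxf
    rcases (Nat.dvd_prime (by norm_num : Nat.Prime 5)).1 hidxf with h1 | h5
    · exfalso
      have h5G : 5 ∣ Nat.card G := by
        refine dvd_trans ?_ (Subgroup.card_subgroup_dvd_card (normalizer ((S : Subgroup G) : Set G)))
        exact (show 5 ∣ Nat.card (EqualOrder.automiser S) from h155 ▸ (by norm_num)).trans
          (Subgroup.card_range_dvd _)
      rw [← hGN, h1, hNc, hq, hqn, h] at h5G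
      norm_num at h5G
    · have hbij : Function.Bijective φ := hinj.bijective_of_nat_card_le (by
        rw [hAut, ← hGN, h5, hNc, h, mul_comm])
      exact Or.inr (Or.inl ⟨(MulEquiv.ofBijective φ hbij).trans (MulAut.congr (EPPO.pslRingEquiv eK'))⟩)

end Cfsg.Agent.EqualPOrder
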