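import Cfsg.Agent.Lib.Solvable.FixedPointFree
import Cfsg.Agent.Lib.EqualOrder.Basic
import Cfsg.Agent.Lib.BGroup.Cyclic
import Mathlib.GroupTheory.SpecificGroups.Quaternion

/-!
Groups in which `p`-subgroups of equal order are conjugate: the shape of a Sylow `p`-subgroup.
-/

set_option autoImplicit false
set_option linter.style.haveILetI false

namespace Cfsg.Agent.EqualPOrder

open Subgroup

/-- Any two `p`-subgroups of equal order are conjugate. -/
def PConj (p : ℕ) (G : Type*) [Group G] : Prop :=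
  ∀ H K : Subgroup G, IsPGroup p H → IsPGroup p K → Nat.card H = Nat.card K →
    ∃ g : G, K = H.map (MulAut.conj g).toMonoidHom

/-- The elements of `p`-power order have order dividing `p`. -/
def ExpP (p : ℕ) (G : Type*) [Group G] : Prop := ∀ g : G, (∃ k : ℕ, orderOf g = p ^ k) → g ^ p = 1

variable {G : Type*} [Group G] {p : ℕ}

theorem PConj.iso (hC : PConj p G) {H K : Subgroup G} (hH : IsPGroup p H) (hK : IsPGroup p K)
    (h : Nat.card H = Nat.card K) : Nonempty (H ≃* K) := by
  obtain ⟨g, rfl⟩ := hC H K hH hK h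
  exact ⟨H.equivMapOfInjective _ (MulAut.conj g).injective⟩

variable [Finite G] [hp : Fact p.Prime]

theorem PConj.mulComm (hC : PConj p G) {H K : Subgroup G} {k : ℕ} (hH : Nat.card H = p ^ k)
    (hK : Nat.card K = p ^ k) (hc : ∀ a ∈ H, ∀ b ∈ H, a * b = b * a) : ∀ a ∈ K, ∀ b ∈ K, a * b = b * a := by
  obtain ⟨g, rfl⟩ := hC H K (IsPGroup.of_card hH) (IsPGroup.of_card hK) (hH.trans hK.symm)
  rintro _ ⟨a, ha, rfl⟩ _ ⟨b, hb, rfl⟩
  rw [← map_mul, ← map_mul, hc a ha b hb]

/-- An element of order `p` spans with another one outside its subgroup a group of order `p ^ 2`. -/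
theorem card_sup_zpowers {x : G} {K : Subgroup G} (hx : orderOf x = p) (hn : x ∈ normalizer (K : Set G))
    (hxK : x ∉ K) : Nat.card ↥(zpowers x ⊔ K) = p * Nat.card K := by
  rw [EqualOrder.card_sup (zpowers_le.2 hn), Nat.card_zpowers, hx]
  rw [disjoint_iff, eq_bot_iff]
  rintro u ⟨hu, huK⟩
  rw [mem_bot]
  by_contra hu1
  refine hxK (zpowers_le.2 huK ?_)
  obtain ⟨i, rfl⟩ := mem_zpowers_iff.1 hu
  haveI : Fact (Nat.card (zpowers x)).Prime := ⟨by rw [Nat.card_zpowers, hx]; exact hp.out⟩
  have h := mem_zpowers_of_prime_card (G := zpowers x) (g := ⟨x ^ i, hu⟩) (g' := ⟨x, mem_zpowers x⟩) rfl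
    (fun e => hu1 (congrArg Subtype.val e))
  obtain ⟨j, hj⟩ := mem_zpowers_iff.1 h
  exact ⟨j, congrArg Subtype.val hj⟩

/-- The shape of a Sylow subgroup. -/
theorem shape (hC : PConj p G) (P : Sylow p G) :
    ExpP p G ∨ IsCyclic (P : Subgroup G) ∨ (p = 2 ∧ Nonempty ((P : Subgroup G) ≃* QuaternionGroup 2)) := by
  classical
  by_cases hV : ∃ V : Subgroup G, Nat.card V = p ^ 2 ∧ ¬ IsCyclic V
  · refine Or.inl fun g hg => ?_
    obtain ⟨V, hV2, hVn⟩ := hV
    obtain ⟨k, hk⟩ := hg
    rcases k with _ | _ | k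
    · rw [orderOf_eq_one_iff.1 hk, one_pow]
    · rw [← show orderOf g = p by simpa using hk, pow_orderOf_eq_one]
    · exfalso
      have hd : p ^ 2 ∣ orderOf g := hk ▸ pow_dvd_pow p (by omega)
      have hc : Nat.card (zpowers (g ^ (orderOf g / p ^ 2))) = p ^ 2 := by
        rw [Nat.card_zpowers, orderOf_pow_orderOf_div (orderOf_pos g).ne' hd]
      obtain ⟨e⟩ := hC.iso (IsPGroup.of_card hc) (IsPGroup.of_card hV2) (hc.trans hV2.symm)
      exact hVn (e.isCyclic.1 inferInstance)
  · push Not at hV
    refine Or.inr ?_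
    have hab : AbCyc.AbCyclic (P : Subgroup G) := by
      intro A hA
      letI : CommGroup A := open scoped IsMulCommutative in inferInstance
      refine BGroup.isCyclic_of_unique_prime fun r hr x y hx hy => ?_
      have hrp : r = p := by
        obtain ⟨k, hk⟩ := IsPGroup.iff_orderOf.1 (P.2.to_subgroup A) x
        exact (Nat.prime_dvd_prime_iff_eq hr hp.out).1 (hr.dvd_of_dvd_pow (n := k) (by rw [← hk, hx]))
      subst hrp
      by_contra hne
      set X : G := ((x : (P : Subgroup G)) : G) with hXdef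
      set Y : G := ((y : (P : Subgroup G)) : G) with hYdef
      have hinj : Function.Injective ((P : Subgroup G).subtype.comp A.subtype) :=
        (P : Subgroup G).subtype_injective.comp A.subtype_injective
      have hX : orderOf X = r := (orderOf_injective _ hinj x).trans hx
      have hY : orderOf Y = r := (orderOf_injective _ hinj y).trans hy
      have hcm : X * Y = Y * X := congrArg ((P : Subgroup G).subtype.comp A.subtype) (mul_comm x y)
      have hYX : Y ∉ zpowers X := by
        intro h
        obtain ⟨i, hi⟩ := mem_zpowers_iff.1 h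
        exact hne ⟨i, hinj (by rw [map_zpow]; exact hi)⟩
      have hcard : Nat.card ↥(zpowers Y ⊔ zpowers X) = r ^ 2 := by
        rw [card_sup_zpowers hY ?_ hYX, Nat.card_zpowers, hX, pow_two]
        exact centralizer_le_normalizer _ (mem_centralizer_iff.2 fun u hu => by
          obtain ⟨i, rfl⟩ := mem_zpowers_iff.1 hu
          exact (Commute.zpow_left hcm i).eq)
      haveI := hV _ hcard
      obtain ⟨w, hw⟩ := IsCyclic.exists_ofOrder_eq_natCard (α := ↥(zpowers Y ⊔ zpowers X))
      rw [hcard] at hw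
      have hle : zpowers Y ⊔ zpowers X ≤ ((Subgroup.closure ({X, Y} : Set G))) :=
        sup_le (zpowers_le.2 (subset_closure (by simp))) (zpowers_le.2 (subset_closure (by simp)))
      have hwp : (w : G) ^ r = 1 := by
        refine Subgroup.closure_induction (p := fun u _ => u ^ r = 1) ?_ (one_pow r) ?_ ?_ (hle w.2)
        · rintro u (rfl | rfl)
          · rw [← hX, pow_orderOf_eq_one]
          · rw [← hY, pow_orderOf_eq_one]
        · intro u v hu hv h1 h2
          have huv : Commute u v := by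
            have hc : IsMulCommutative (Subgroup.closure ({X, Y} : Set G)) :=
              Subgroup.isMulCommutative_closure (by
                intro a ha b hb
                simp only [Set.mem_insert_iff, Set.mem_singleton_iff] at ha hb
                rcases ha with rfl | rfl <;> rcases hb with rfl | rfl <;>
                  first | rfl | exact hcm | exact hcm.symm)
            exact congrArg Subtype.val (hc.is_comm.comm ⟨u, hu⟩ ⟨v, hv⟩)
          rw [huv.mul_pow, h1, h2, one_mul]
        · intro u _ h1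
          rw [inv_pow, h1, inv_one]
      have h := Nat.le_of_dvd hr.pos (orderOf_dvd_of_pow_eq_one (x := w) (Subtype.ext (by simpa using hwp)))
      rw [hw] at h
      nlinarith [hr.two_le]
    rcases FpfStruct.cyclic_or_quaternion P.2 hab with h | ⟨h2, n, ⟨f⟩⟩
    · exact Or.inl h
    subst h2
    rcases n with _ | _ | n
    · exact Or.inl (f.isCyclic.2 QuaternionGroup.quaternionGroup_one_isCyclic)
    · exact Or.inr ⟨rfl, ⟨f⟩⟩
    exfalso
    set m := 2 ^ (n + 2) with hm
    haveI : NeZero m := ⟨by positivity⟩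
    set ψ : QuaternionGroup m →* G := (P : Subgroup G).subtype.comp f.symm.toMonoidHom
    have hψ : Function.Injective ψ := (P : Subgroup G).subtype_injective.comp f.symm.injective
    have ha : orderOf (QuaternionGroup.a (1 : ZMod (2 * m))) = 2 * m := QuaternionGroup.orderOf_a_one
    have h8 : (8 : ℕ) ∣ 2 * m := ⟨2 ^ n, by rw [hm, pow_succ, pow_succ]; ring⟩
    set C := zpowers ((QuaternionGroup.a (1 : ZMod (2 * m))) ^ (2 * m / 8))
    have hCc : Nat.card C = 8 := by
      have := orderOf_pow_orderOf_div (x := QuaternionGroup.a (1 : ZMod (2 * m))) (n := 8)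
        (orderOf_pos _).ne' (ha.symm ▸ h8)
      rw [ha] at this
      rw [Nat.card_zpowers, this]
    have hx4 : Nat.card (zpowers (QuaternionGroup.xa (0 : ZMod (2 * m)))) = 2 ^ 2 := by
      rw [Nat.card_zpowers, QuaternionGroup.orderOf_xa]; norm_num
    obtain ⟨Q, hQc, hQle⟩ := Sylow.exists_subgroup_card_pow_prime_le 2 (m := 3) (n := 2) (by
        rw [Nat.card_eq_fintype_card, QuaternionGroup.card, hm]
        exact ⟨2 * 2 ^ n, by rw [pow_succ, pow_succ]; ring⟩) _ hx4 (by norm_num)
    have hC3 : Nat.card (C.map ψ) = 2 ^ 3 := by rw [card_map_of_injective hψ, hCc]; norm_num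
    have hQ3 : Nat.card (Q.map ψ) = 2 ^ 3 := by rw [card_map_of_injective hψ, hQc]
    obtain ⟨i⟩ := hC.iso (IsPGroup.of_card hC3) (IsPGroup.of_card hQ3) (hC3.trans hQ3.symm)
    have hQcy : IsCyclic Q :=
      ((C.equivMapOfInjective ψ hψ).trans (i.trans (Q.equivMapOfInjective ψ hψ).symm)).isCyclic.1 inferInstance
    obtain ⟨⟨y, hyQ⟩, hy⟩ := IsCyclic.exists_ofOrder_eq_natCard (α := Q)
    rw [orderOf_mk, hQc] at hy
    obtain ⟨k, hk⟩ : QuaternionGroup.xa (0 : ZMod (2 * m)) ∈ zpowers (QuaternionGroup.a (1 : ZMod (2 * m))) := by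
      have hxQ : QuaternionGroup.xa (0 : ZMod (2 * m)) ∈ Q := hQle (mem_zpowers _)
      have hyz : zpowers y = Q := eq_of_le_of_card_ge (zpowers_le.2 hyQ) (by rw [Nat.card_zpowers, hy, hQc])
      rw [← hyz] at hxQ
      refine zpowers_le.2 ?_ hxQ
      rcases y with j | j
      · refine ⟨(j.val : ℤ), ?_⟩
        show QuaternionGroup.a (1 : ZMod (2 * m)) ^ ((j.val : ℕ) : ℤ) = _
        rw [zpow_natCast, QuaternionGroup.a_one_pow, ZMod.natCast_zmod_val]
      · rw [QuaternionGroup.orderOf_xa] at hy; norm_num at hy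
    obtain ⟨k', hk'⟩ : ∃ k' : ℕ, QuaternionGroup.a (1 : ZMod (2 * m)) ^ k' = QuaternionGroup.xa 0 :=
      (isOfFinOrder_of_finite _).mem_zpowers_iff_mem_range_orderOf.1 ⟨k, hk⟩ |> Finset.mem_image.1 |>.imp
        fun _ h => h.2
    rw [QuaternionGroup.a_one_pow] at hk'
    cases hk'

end Cfsg.Agent.EqualPOrder
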